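import Groth.Agent.RamPencil.Generic
import Groth.Prelude.Def_W4c1limliniiiiRamP1

/-!
# Criteria for membership in `ramMaps`
-/

set_option autoImplicit false

universe u

namespace Groth.Agent.RamPencil

open W4c1limliniiii Polynomial

variable {k : Type u} [Field k] {p : ℕ} {d n : ℕ} {e : Fin n → ℕ} {P : Fin n → k} {F G : k[X]}

theorem exists_vanishing_partner {s : k[X]} (hs : s ∈ Submodule.span k {F, G}) (hs0 : s ≠ 0) :
    ∃ t ∈ Submodule.span k {F, G}, ∃ a : k, a ≠ 0 ∧ wronskian s t = C a * wronskian F G := by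
  obtain ⟨u, v, rfl⟩ := Submodule.mem_span_pair.mp hs
  have hmem : ∀ a b : k, C a * F + C b * G ∈ Submodule.span k {F, G} := fun a b =>
    Submodule.mem_span_pair.mpr ⟨a, b, by rw [smul_eq_C_mul, smul_eq_C_mul]⟩
  by_cases hu : u = 0
  · refine ⟨_, hmem 1 0, -v, neg_ne_zero.mpr fun h => hs0 (by simp [hu, h]), ?_⟩
    rw [smul_eq_C_mul, smul_eq_C_mul,
      Groth.Agent.PencilLim.wronskian_comb _ _ _ _ _ _ derivative_C derivative_C derivative_C derivative_C]
    simp
  · refine ⟨_, hmem 0 1, u, hu, ?_⟩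
    rw [smul_eq_C_mul, smul_eq_C_mul,
      Groth.Agent.PencilLim.wronskian_comb _ _ _ _ _ _ derivative_C derivative_C derivative_C derivative_C]
    simp

theorem wronskian_eq_zero_of_span (h : wronskian F G = 0) {s t : k[X]} (hs : s ∈ Submodule.span k {F, G})
    (ht : t ∈ Submodule.span k {F, G}) : wronskian s t = 0 := by
  obtain ⟨u, v, rfl⟩ := Submodule.mem_span_pair.mp hs
  obtain ⟨u', v', rfl⟩ := Submodule.mem_span_pair.mp ht
  rw [smul_eq_C_mul, smul_eq_C_mul, smul_eq_C_mul, smul_eq_C_mul,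
    Groth.Agent.PencilLim.wronskian_comb _ _ _ _ _ _ derivative_C derivative_C derivative_C derivative_C, h, mul_zero]

theorem exists_wronskian_eq (he : Admissible p d e) (hP : Function.Injective P)
    (hF : F.natDegree ≤ d) (hG : G.natDegree ≤ d) (hW : wronskian F G ≠ 0)
    (hmem : ∀ i, ∃ s ∈ Submodule.span k {F, G}, s ≠ 0 ∧ (X - C (P i)) ^ e i ∣ s) :
    ∃ c : k, c ≠ 0 ∧ wronskian F G = C c * ∏ i, (X - C (P i)) ^ (e i - 1) := by
  have hmon : (∏ i, (X - C (P i)) ^ (e i - 1)).Monic := monic_prod_of_monic _ _ fun i _ => (monic_X_sub_C _).pow _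
  obtain ⟨r, hr⟩ : ∏ i, (X - C (P i)) ^ (e i - 1) ∣ wronskian F G := by
    refine Finset.prod_dvd_of_coprime (fun i _ j _ hij => ((pairwise_coprime_X_sub_C hP) hij).pow) fun i _ => ?_
    obtain ⟨s, hs, hs0, hd⟩ := hmem i
    obtain ⟨t, -, a, ha, hst⟩ := exists_vanishing_partner hs hs0
    refine ((isUnit_C.mpr (Ne.isUnit ha)).dvd_mul_left).mp ?_
    rw [← hst]
    exact Groth.Agent.PencilLim.pow_dvd_wronskian_pred hd t
  have hr0 : r ≠ 0 := fun h => hW (by rw [hr, h, mul_zero])
  have hrC : r = C (r.coeff 0) := by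
    refine eq_C_of_natDegree_eq_zero ?_
    have h := Groth.Agent.PencilLim.natDegree_wronskian_le_of_le hF hG
    rw [hr, natDegree_mul hmon.ne_zero hr0, natDegree_prod (P := P) p he] at h
    omega
  exact ⟨r.coeff 0, fun h => hr0 (by rw [hrC, h, map_zero]), by rw [hr, mul_comm]; conv_lhs => rw [hrC]⟩

theorem span_mem_ramMaps [CharP k p] (he : Admissible p d e) (hP : Function.Injective P)
    (hF : F.natDegree ≤ d) (hG : G.natDegree ≤ d) (hW : wronskian F G ≠ 0)
    (hmem : ∀ i, ∃ s ∈ Submodule.span k {F, G}, s ≠ 0 ∧ (X - C (P i)) ^ e i ∣ s) :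
    Submodule.span k {F, G} ∈ ramMaps d P e := by
  obtain ⟨c, hc, hWc⟩ := exists_wronskian_eq he hP hF hG hW hmem
  have hFm : F ∈ Submodule.span k {F, G} := Submodule.subset_span (Set.mem_insert _ _)
  have hGm : G ∈ Submodule.span k {F, G} := Submodule.subset_span (Set.mem_insert_of_mem _ rfl)
  have hnot := fun i => not_pow_dvd hP hc hWc (fun j => le_trans (by norm_num) (he.1 j).1) i
  refine ⟨⟨?_, ?_, ?_, fun a => ?_⟩, ⟨F, hFm, G, hGm, hW⟩, fun i => ⟨?_, fun s hs hs0 => ?_⟩⟩
  · refine Submodule.span_le.mpr ?_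
    rintro _ (rfl | rfl) <;> exact mem_degreeLE.mpr (natDegree_le_iff_degree_le.mp (by assumption))
  · have hli : LinearIndependent k ![F, G] := LinearIndependent.pair_iff.mpr fun u v huv => by
      by_contra hne
      have hne' : u ≠ 0 ∨ v ≠ 0 := not_and_or.mp hne
      rw [smul_eq_C_mul, smul_eq_C_mul] at huv
      have h1 := Groth.Agent.PencilLim.wronskian_comb F G (C u) (C v) (C 0) (C 1) derivative_C derivative_C derivative_C derivative_C
      have h2 := Groth.Agent.PencilLim.wronskian_comb F G (C u) (C v) (C 1) (C 0) derivative_C derivative_C derivative_C derivative_C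
      rw [huv, wronskian_zero_left] at h1 h2
      simp [hW] at h1 h2
      exact hne ⟨h1, h2⟩
    have hcard := finrank_span_eq_card hli
    rwa [Matrix.range_cons_cons_empty, Fintype.card_fin] at hcard
  · rcases natDegree_eq_or p he hF hG hc hWc with h | h
    exacts [⟨F, hFm, h⟩, ⟨G, hGm, h⟩]
  · by_contra! hcon
    have hd : ∀ s ∈ Submodule.span k {F, G}, X - C a ∣ s := fun s hs => dvd_iff_isRoot.mpr (hcon s hs)
    have hWa : (X - C a) ^ (0 + 1) ∣ wronskian F G :=
      Groth.Agent.PencilLim.pow_dvd_wronskian (by rw [pow_one]; exact hd F hFm) (hd G hGm)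
    rw [zero_add, pow_one, hWc, dvd_iff_isRoot, IsRoot, eval_mul, eval_C, mul_eq_zero, or_iff_right hc,
      eval_prod, Finset.prod_eq_zero_iff] at hWa
    obtain ⟨i, -, hi⟩ := hWa
    rw [eval_pow, eval_sub, eval_X, eval_C] at hi
    have ha := sub_eq_zero.mp (eq_zero_of_pow_eq_zero hi)
    subst ha
    obtain ⟨s, hs, hs0, hds⟩ := hmem i
    obtain ⟨t, ht, b, hb, hst⟩ := exists_vanishing_partner hs hs0
    obtain ⟨e', he'⟩ : ∃ e', e i = e' + 1 := ⟨e i - 1, by have := (he.1 i).1; omega⟩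
    apply hnot i
    rw [he'] at hds ⊢
    refine ((isUnit_C.mpr (Ne.isUnit hb)).dvd_mul_left).mp ?_
    rw [← hst]
    exact Groth.Agent.PencilLim.pow_dvd_wronskian hds (hd t ht)
  · obtain ⟨s, hs, hs0, hds⟩ := hmem i
    exact ⟨s, hs, hs0, (le_rootMultiplicity_iff hs0).mpr hds⟩
  · by_contra! hcon
    have hds := (le_rootMultiplicity_iff hs0).mp (hcon : e i + 1 ≤ _)
    obtain ⟨t, -, b, hb, hst⟩ := exists_vanishing_partner hs hs0
    apply hnot i
    refine ((isUnit_C.mpr (Ne.isUnit hb)).dvd_mul_left).mp ?_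
    rw [← hst]
    simpa using Groth.Agent.PencilLim.pow_dvd_wronskian_pred hds t

theorem exists_basis_of_ramMaps (he : Admissible p d e) (hP : Function.Injective P) {V : Submodule k k[X]}
    (hV : V ∈ ramMaps d P e) :
    ∃ F G : k[X], V = Submodule.span k {F, G} ∧ F.natDegree ≤ d ∧ G.natDegree ≤ d ∧
      ∃ c : k, c ≠ 0 ∧ wronskian F G = C c * ∏ i, (X - C (P i)) ^ (e i - 1) := by
  obtain ⟨⟨hle, hfr, -, -⟩, ⟨s, hs, t, ht, hst⟩, hram⟩ := hV
  haveI : FiniteDimensional k V := Module.finite_of_finrank_pos (by omega)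
  have hdeg : ∀ f ∈ V, f.natDegree ≤ d := fun f hf => natDegree_le_iff_degree_le.mpr (mem_degreeLE.mp (hle hf))
  have hli : LinearIndependent k ![s, t] := LinearIndependent.pair_iff.mpr fun a b hab => by
    rw [smul_eq_C_mul, smul_eq_C_mul] at hab
    have h1 := Groth.Agent.PencilLim.wronskian_comb s t (C a) (C b) (C 0) (C 1) derivative_C derivative_C derivative_C derivative_C
    have h2 := Groth.Agent.PencilLim.wronskian_comb s t (C a) (C b) (C 1) (C 0) derivative_C derivative_C derivative_C derivative_C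
    rw [hab, wronskian_zero_left] at h1 h2
    simp [hst] at h1 h2
    exact ⟨h1, h2⟩
  have hcard := finrank_span_eq_card hli
  rw [Matrix.range_cons_cons_empty, Fintype.card_fin] at hcard
  have hspan : V = Submodule.span k {s, t} :=
    (Submodule.eq_of_le_of_finrank_eq (Submodule.span_le.mpr (by rintro _ (rfl | rfl) <;> assumption)) (hcard.trans hfr.symm)).symm
  refine ⟨s, t, hspan, hdeg s hs, hdeg t ht, exists_wronskian_eq he hP (hdeg s hs) (hdeg t ht) hst fun i => ?_⟩
  obtain ⟨f, hf, hf0, hfe⟩ := (hram i).1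
  exact ⟨f, hspan ▸ hf, hf0, (le_rootMultiplicity_iff hf0).mp hfe⟩

theorem dependent_of_wronskian_eq_zero [CharP k p] (hp : p = 0 ∨ d < p) (hF : F.natDegree ≤ d) (hG : G.natDegree ≤ d)
    (hW : wronskian F G = 0) : ∃ a b : k, (a ≠ 0 ∨ b ≠ 0) ∧ a • F + b • G = 0 := by
  suffices key : ∀ s t : k[X], s.natDegree ≤ d → t.natDegree ≤ d → wronskian s t = 0 → s ≠ 0 → t ≠ 0 →
      s.natDegree = t.natDegree by
    by_cases hF0 : F = 0
    · exact ⟨1, 0, Or.inl one_ne_zero, by simp [hF0]⟩
    by_cases hG0 : G = 0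
    · exact ⟨0, 1, Or.inr one_ne_zero, by simp [hG0]⟩
    refine ⟨-G.leadingCoeff, F.leadingCoeff, Or.inr (leadingCoeff_ne_zero.mpr hF0), by_contra fun hne => ?_⟩
    have hdeg := key F G hF hG hW hF0 hG0
    set Z := -G.leadingCoeff • F + F.leadingCoeff • G
    have hZd : Z.natDegree ≤ F.natDegree := (natDegree_add_le _ _).trans
      (max_le (natDegree_smul_le _ _) ((natDegree_smul_le _ _).trans hdeg.ge))
    have hWZ : wronskian F Z = 0 := by
      simp only [Z, smul_eq_C_mul, wronskian_add_right]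
      simp only [wronskian, derivative_mul, derivative_C, zero_mul, zero_add] at hW ⊢
      linear_combination C F.leadingCoeff * hW
    have h := key F Z hF (hZd.trans hF) hWZ hF0 hne
    refine leadingCoeff_ne_zero.mpr hne ?_
    rw [leadingCoeff, ← h]
    simp only [Z, coeff_add, coeff_smul, smul_eq_mul]
    nth_rewrite 2 [hdeg]
    rw [coeff_natDegree, coeff_natDegree]
    ring
  intro s t hs ht hst hs0 ht0
  have h := Groth.Agent.PencilLim.coeff_wronskian_top (le_refl s.natDegree) (le_refl t.natDegree)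
  rw [hst, coeff_zero, coeff_natDegree, coeff_natDegree, eq_comm, mul_eq_zero,
    or_iff_left (mul_ne_zero (leadingCoeff_ne_zero.mpr hs0) (leadingCoeff_ne_zero.mpr ht0)), sub_eq_zero,
    CharP.natCast_eq_natCast k p] at h
  rcases hp with rfl | hp
  · exact ((Nat.modEq_zero_iff).mp h).symm
  · exact (Nat.ModEq.eq_of_lt_of_lt h (by omega) (by omega)).symm

end Groth.Agent.RamPencil
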