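import Mathlib

/-!
# Coefficientwise action of derivations on polynomials
-/

set_option autoImplicit false

namespace Groth.Agent.RamPencil

open Polynomial

variable {k N : Type*} [CommRing k] [CommRing N] [Algebra k N]

/-- Apply a derivation to all coefficients of a polynomial. -/
noncomputable def dmap (D : Derivation k N N) (f : N[X]) : N[X] :=
  ∑ i ∈ f.support, monomial i (D (f.coeff i))

@[simp]
theorem coeff_dmap (D : Derivation k N N) (f : N[X]) (i : ℕ) : (dmap D f).coeff i = D (f.coeff i) := by
  rw [dmap, finsetSum_coeff]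
  simp only [coeff_monomial, Finset.sum_ite_eq', mem_support_iff]
  by_cases h : f.coeff i = 0
  · simp [h]
  · rw [if_pos (mem_support_iff.mpr h)]

@[simp]
theorem dmap_add (D : Derivation k N N) (f g : N[X]) : dmap D (f + g) = dmap D f + dmap D g := by
  ext i; simp

@[simp]
theorem dmap_sub (D : Derivation k N N) (f g : N[X]) : dmap D (f - g) = dmap D f - dmap D g := by
  ext i; simp

@[simp]
theorem dmap_C (D : Derivation k N N) (a : N) : dmap D (C a) = C (D a) := by
  ext i; rcases i with _ | i <;> simp [coeff_C]

@[simp]
theorem dmap_one (D : Derivation k N N) : dmap D (1 : N[X]) = 0 := by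
  rw [← C_1, dmap_C, D.map_one_eq_zero, C_0]

@[simp]
theorem dmap_X (D : Derivation k N N) : dmap D (X : N[X]) = 0 := by
  ext i
  rw [coeff_dmap, coeff_X]
  split_ifs <;> simp

theorem dmap_mul (D : Derivation k N N) (f g : N[X]) : dmap D (f * g) = dmap D f * g + f * dmap D g := by
  ext i
  simp only [coeff_dmap, coeff_add, coeff_mul, map_sum, Derivation.leibniz, smul_eq_mul, ← Finset.sum_add_distrib]
  exact Finset.sum_congr rfl fun x _ => by ring

theorem dmap_X_sub_C_pow (D : Derivation k N N) (P : N) (n : ℕ) :
    dmap D ((X - C P) ^ (n + 1)) = -(C (n + 1 : N) * C (D P) * (X - C P) ^ n) := by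
  induction n with
  | zero => simp
  | succ n ih =>
    rw [pow_succ, dmap_mul, ih, dmap_sub, dmap_X, dmap_C]
    simp only [Nat.cast_add, Nat.cast_one, map_add, map_one]
    ring

theorem natDegree_dmap_le (D : Derivation k N N) (f : N[X]) : (dmap D f).natDegree ≤ f.natDegree := by
  refine natDegree_le_iff_coeff_eq_zero.mpr fun i hi => ?_
  rw [coeff_dmap, coeff_eq_zero_of_natDegree_lt hi, map_zero]

theorem dmap_add_left (D D' : Derivation k N N) (f : N[X]) : dmap (D + D') f = dmap D f + dmap D' f := by
  ext i; simp

theorem dmap_smul_left (a : N) (D : Derivation k N N) (f : N[X]) : dmap (a • D) f = C a * dmap D f := by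
  ext i; simp

end Groth.Agent.RamPencil
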