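import Groth.Agent.RamPencil.Deriv
import Groth.Agent.PencilLim.Basic
import Groth.Agent.S4526

/-!
# Pencils with prescribed tame ramification at algebraically independent points
-/

set_option autoImplicit false

universe u

namespace Groth.Agent.RamPencil

open Polynomial

theorem trdeg_le_finrank_derivation {k N : Type u} [Field k] [Field N] [Algebra k N] [Algebra.EssFiniteType k N] :
    Module.Finite N (Derivation k N N) ∧
      Cardinal.toNat (Algebra.trdeg k N) ≤ Module.finrank N (Derivation k N N) := by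
  obtain ⟨h1, -, h3⟩ := Groth.Agent.S4526.result (k := k) (K := k) (L := N)
  haveI := h1
  let e := KaehlerDifferential.linearMapEquivDerivation k N (M := N)
  have hfin : Module.Finite N (Derivation k N N) := Module.Finite.equiv e
  refine ⟨hfin, ?_⟩
  rw [← e.finrank_eq, Module.finrank_linearMap, Module.finrank_self, mul_one]
  haveI : Subsingleton (Ω[k⁄k]) := KaehlerDifferential.subsingleton_of_surjective k k Function.surjective_id
  rw [Module.finrank_zero_of_subsingleton (R := k) (M := Ω[k⁄k])] at h3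
  omega

variable {k N : Type u} [Field k] [Field N] [Algebra k N] {d n : ℕ} {e : Fin n → ℕ}

/-- The member of the pencil spanned by `F` and `G` which vanishes at `P`. -/
noncomputable def mem0 (F G : N[X]) (P : N) : N[X] := C (G.eval P) * F - C (F.eval P) * G

/-- The linear condition on a deformation imposed by one ramification point. -/
noncomputable def tau (F G : N[X]) (P : N) :
    (Derivation k N N × (Fin 3 → N)) →ₗ[N] N where
  toFun x := G.eval P * x.1 (-(F.eval P)) - -(F.eval P) * x.1 (G.eval P) + x.2 0 * F.eval P ^ 2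
    + x.2 1 * (G.eval P * F.eval P) + x.2 2 * G.eval P ^ 2
  map_add' x y := by
    simp only [Prod.fst_add, Prod.snd_add, Derivation.add_apply, Pi.add_apply]
    ring
  map_smul' a x := by
    simp only [Prod.smul_fst, Prod.smul_snd, Derivation.smul_apply, Pi.smul_apply, smul_eq_mul, RingHom.id_apply]
    ring

/-- The deformed Wronskian. -/
noncomputable def defo (F G : N[X]) : (Derivation k N N × (Fin 3 → N)) →ₗ[N] N[X] where
  toFun x := F * dmap x.1 G - G * dmap x.1 F + C (x.2 0) * F ^ 2 + C (x.2 1) * (F * G) + C (x.2 2) * G ^ 2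
  map_add' x y := by
    simp only [Prod.fst_add, Prod.snd_add, dmap_add_left, Pi.add_apply, map_add]
    ring
  map_smul' a x := by
    simp only [Prod.smul_fst, Prod.smul_snd, dmap_smul_left, Pi.smul_apply, smul_eq_mul, RingHom.id_apply, map_mul,
      smul_eq_C_mul]
    ring

variable (p : ℕ) [CharP k p] (he : (∀ i, 2 ≤ e i ∧ e i ≤ d ∧ ¬ p ∣ e i) ∧ (∑ i, e i) + 2 = 2 * d + n)
  {P : Fin n → N} {F G : N[X]} (hP : Function.Injective P)
  (hF : F.natDegree ≤ d) (hG : G.natDegree ≤ d) {c : N} (hc : c ≠ 0)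
  (hW : wronskian F G = C c * ∏ i, (X - C (P i)) ^ (e i - 1))
  (hnv : ∀ i, G.eval (P i) ≠ 0 ∨ F.eval (P i) ≠ 0)
  (hdvd : ∀ i, (X - C (P i)) ^ e i ∣ mem0 F G (P i))

include he in
theorem natDegree_prod : (∏ i, (X - C (P i)) ^ (e i - 1)).natDegree = 2 * d - 2 := by
  rw [natDegree_prod_of_monic _ _ fun i _ => (monic_X_sub_C _).pow _]
  simp only [natDegree_pow, natDegree_X_sub_C, mul_one]
  have h1 : ∑ i, (e i - 1) + ∑ _i : Fin n, 1 = ∑ i, e i := by
    rw [← Finset.sum_add_distrib]
    exact Finset.sum_congr rfl fun i _ => Nat.sub_add_cancel (by have := (he.1 i).1; omega)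
  have h2 := he.2
  simp only [Finset.sum_const, Finset.card_univ, Fintype.card_fin, smul_eq_mul, mul_one] at h1
  omega

include he hF hG hc hW in
theorem natDegree_eq_or : F.natDegree = d ∨ G.natDegree = d := by
  by_contra! h
  have h1 := natDegree_prod (P := P) p he
  have h2 : (wronskian F G).natDegree = 2 * d - 2 := by rw [hW, natDegree_C_mul hc, h1]
  have h3 := Groth.Agent.PencilLim.natDegree_wronskian_le_of_le (d := d - 1) (a := F) (b := G) (by omega) (by omega)
  have hd : d = 1 := by omega
  subst hd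
  have h4 : wronskian F G = 0 := by
    rw [eq_C_of_natDegree_le_zero (show F.natDegree ≤ 0 by omega), eq_C_of_natDegree_le_zero (show G.natDegree ≤ 0 by omega)]
    simp [wronskian]
  rw [h4, eq_comm, mul_eq_zero, or_iff_right (by simpa using hc)] at hW
  exact (monic_prod_of_monic _ _ fun i _ => (monic_X_sub_C _).pow _).ne_zero hW

include hc hW hnv in
theorem isCoprime_of_wronskian : IsCoprime F G := by
  refine isCoprime_of_prime_dvd (fun h => ?_) fun z hz hzF hzG => ?_
  · rw [h.1, wronskian_zero_left, eq_comm, mul_eq_zero, or_iff_right (by simpa using hc)] at hW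
    exact (monic_prod_of_monic _ _ fun i _ => (monic_X_sub_C _).pow _).ne_zero hW
  · have h : z ∣ C c * ∏ i, (X - C (P i)) ^ (e i - 1) :=
      hW ▸ dvd_sub (dvd_mul_of_dvd_left hzF _) (dvd_mul_of_dvd_right hzG _)
    rw [(isUnit_C.mpr (Ne.isUnit hc)).dvd_mul_left] at h
    obtain ⟨i, -, hi⟩ := (hz.dvd_finsetProd_iff _).mp h
    have hass := hz.irreducible.associated_of_dvd (irreducible_X_sub_C _) (hz.dvd_of_dvd_pow hi)
    have h1 : F.eval (P i) = 0 := dvd_iff_isRoot.mp (hass.symm.dvd.trans hzF)
    have h2 : G.eval (P i) = 0 := dvd_iff_isRoot.mp (hass.symm.dvd.trans hzG)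
    exact (hnv i).elim (fun h => h h2) (fun h => h h1)

include hP hc hW in
theorem not_pow_dvd (he1 : ∀ i, 1 ≤ e i) (i : Fin n) : ¬ (X - C (P i)) ^ e i ∣ wronskian F G := fun h => by
  classical
  rw [hW, (isUnit_C.mpr (Ne.isUnit hc)).dvd_mul_left, ← Finset.mul_prod_erase _ _ (Finset.mem_univ i)] at h
  nth_rewrite 1 [show e i = e i - 1 + 1 by have := he1 i; omega] at h
  rw [pow_succ, mul_dvd_mul_iff_left (pow_ne_zero _ (X_sub_C_ne_zero _)), dvd_iff_isRoot, IsRoot, eval_prod,
    Finset.prod_eq_zero_iff] at h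
  obtain ⟨j, hj, hj0⟩ := h
  rw [eval_pow, eval_sub, eval_X, eval_C] at hj0
  exact (Finset.mem_erase.mp hj).1 (hP (sub_eq_zero.mp (eq_zero_of_pow_eq_zero hj0)).symm)

include he hdvd hnv in
theorem dvd_defo (x : Derivation k N N × (Fin 3 → N)) (i : Fin n) (hx : tau F G (P i) x = 0) :
    (X - C (P i)) ^ (e i - 1) ∣ defo F G x := by
  set D := x.1
  set α := G.eval (P i) with hα
  set β := -(F.eval (P i)) with hβ
  obtain ⟨u, hu⟩ := hdvd i
  have hΦ : C α * F + C β * G = (X - C (P i)) ^ e i * u := by
    rw [← hu, mem0, hβ, map_neg, neg_mul, ← sub_eq_add_neg, hα]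
  have hd1 : (X - C (P i)) ^ (e i - 1) ∣ C α * F + C β * G := hΦ ▸ dvd_mul_of_dvd_left (pow_dvd_pow _ (Nat.sub_le _ _)) _
  obtain ⟨e', he'⟩ : ∃ e', e i = e' + 1 := ⟨e i - 1, by have := (he.1 i).1; omega⟩
  have hd2 : (X - C (P i)) ^ (e i - 1) ∣ dmap D (C α * F + C β * G) := by
    rw [hΦ, he', dmap_mul, dmap_X_sub_C_pow, Nat.add_sub_cancel]
    exact dvd_add (dvd_mul_of_dvd_left (dvd_neg.mpr (dvd_mul_left _ _)) _) (dvd_mul_of_dvd_left (pow_dvd_pow _ e'.le_succ) _)
  simp only [dmap_add, dmap_mul, dmap_C] at hd2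
  have hx' : α * D β - β * D α + x.2 0 * β ^ 2 - x.2 1 * (α * β) + x.2 2 * α ^ 2 = 0 := by
    rw [← hx]
    simp only [tau, LinearMap.coe_mk, AddHom.coe_mk, hα, hβ, D]
    ring
  have hx'' := congrArg C hx'
  simp only [map_add, map_sub, map_mul, map_pow, map_zero] at hx''
  have hgoal : defo F G x = F * dmap D G - G * dmap D F + C (x.2 0) * F ^ 2 + C (x.2 1) * (F * G) + C (x.2 2) * G ^ 2 := rfl
  rw [hgoal]
  rcases eq_or_ne α 0 with h0 | h0
  · have hβ0 : β ≠ 0 := fun h => (hnv i).elim (fun hh => hh h0) (fun hh => hh (neg_eq_zero.mp h))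
    refine ((isUnit_C.mpr (Ne.isUnit (pow_ne_zero 2 hβ0))).dvd_mul_left).mp ?_
    have key : C (β ^ 2) * (F * dmap D G - G * dmap D F + C (x.2 0) * F ^ 2 + C (x.2 1) * (F * G) + C (x.2 2) * G ^ 2) =
        C β * (F * (C (D α) * F + C α * dmap D F + (C (D β) * G + C β * dmap D G)) - (C α * F + C β * G) * dmap D F)
          + (-(C (D β) * F) + C (x.2 1) * C β * F + C (x.2 2) * (C β * G - C α * F)) * (C α * F + C β * G) := by
      simp only [map_pow]
      linear_combination F ^ 2 * hx''
    rw [key]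
    exact dvd_add (dvd_mul_of_dvd_right (dvd_sub (dvd_mul_of_dvd_right hd2 _) (dvd_mul_of_dvd_left hd1 _)) _)
      (dvd_mul_of_dvd_right hd1 _)
  · refine ((isUnit_C.mpr (Ne.isUnit (pow_ne_zero 2 h0))).dvd_mul_left).mp ?_
    have key : C (α ^ 2) * (F * dmap D G - G * dmap D F + C (x.2 0) * F ^ 2 + C (x.2 1) * (F * G) + C (x.2 2) * G ^ 2) =
        -(C α * (G * (C (D α) * F + C α * dmap D F + (C (D β) * G + C β * dmap D G)) - (C α * F + C β * G) * dmap D G))
          + (C (D α) * G + C (x.2 0) * (C α * F - C β * G) + C (x.2 1) * C α * G) * (C α * F + C β * G) := by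
      simp only [map_pow]
      linear_combination G ^ 2 * hx''
    rw [key]
    exact dvd_add (dvd_neg.mpr (dvd_mul_of_dvd_right (dvd_sub (dvd_mul_of_dvd_right hd2 _) (dvd_mul_of_dvd_left hd1 _)) _))
      (dvd_mul_of_dvd_right hd1 _)

variable {a b : ℕ} (hab : F.coeff a = 1 ∧ F.coeff b = 0 ∧ G.coeff a = 0 ∧ G.coeff b = 1)
  (hgenD : ∀ D : Derivation k N N, (∀ i, D (P i) = 0) → (∀ j, D (F.coeff j) = 0) → (∀ j, D (G.coeff j) = 0) → D = 0)

include he hP hF hG hc hW hnv hdvd hab hgenD in
theorem eq_zero_of_tau (x : Derivation k N N × (Fin 3 → N)) (hτ : ∀ i, tau F G (P i) x = 0)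
    (htop : ∀ j : Fin 3, (defo F G x).coeff (2 * d - (j : ℕ)) = 0) : x = 0 := by
  classical
  haveI : CharP N p := charP_of_injective_algebraMap (algebraMap k N).injective p
  set D := x.1 with hD
  have hE0 : defo F G x = 0 := by
    obtain ⟨q, hq⟩ : ∏ i, (X - C (P i)) ^ (e i - 1) ∣ defo F G x :=
      Finset.prod_dvd_of_coprime (fun i _ j _ hij => ((pairwise_coprime_X_sub_C hP) hij).pow)
        fun i _ => dvd_defo p he hnv hdvd x i (hτ i)
    by_contra hne
    have hE : (defo F G x).natDegree ≤ 2 * d := by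
      have hFD := (natDegree_dmap_le D F).trans hF
      have hGD := (natDegree_dmap_le D G).trans hG
      have hm : ∀ {f g : N[X]}, f.natDegree ≤ d → g.natDegree ≤ d → (f * g).natDegree ≤ 2 * d := fun hf hg =>
        natDegree_mul_le.trans (by omega)
      have hC : ∀ (t : N) {f : N[X]}, f.natDegree ≤ 2 * d → (C t * f).natDegree ≤ 2 * d := fun t _ hf =>
        (natDegree_C_mul_le _ _).trans hf
      refine (natDegree_add_le _ _).trans (max_le ((natDegree_add_le _ _).trans (max_le ((natDegree_add_le _ _).trans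
        (max_le ((natDegree_sub_le _ _).trans (max_le (hm hF hGD) (hm hG hFD))) (hC _ ?_))) (hC _ (hm hF hG)))) (hC _ ?_))
      · rw [sq]; exact hm hF hF
      · rw [sq]; exact hm hG hG
    have hlow : 2 * d - 2 ≤ (defo F G x).natDegree := by
      rw [← natDegree_prod (P := P) p he, hq]
      exact natDegree_le_of_dvd (dvd_mul_right _ _) (hq ▸ hne)
    refine leadingCoeff_ne_zero.mpr hne ?_
    obtain ⟨j, hj, hj'⟩ : ∃ j : ℕ, j < 3 ∧ (defo F G x).natDegree = 2 * d - j := ⟨2 * d - (defo F G x).natDegree, by omega, by omega⟩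
    rw [leadingCoeff, hj']
    exact htop ⟨j, hj⟩
  have hdef : F * (dmap D G + C (x.2 0) * F + C (x.2 1) * G) = G * (dmap D F - C (x.2 2) * G) := by
    have h : F * dmap D G - G * dmap D F + C (x.2 0) * F ^ 2 + C (x.2 1) * (F * G) + C (x.2 2) * G ^ 2 = 0 := hE0
    linear_combination h
  obtain ⟨l, hl⟩ : F ∣ dmap D F - C (x.2 2) * G :=
    (isCoprime_of_wronskian hc hW hnv).dvd_of_dvd_mul_left (Dvd.intro _ hdef)
  have hF0 : F ≠ 0 := fun h => by rw [h, coeff_zero] at hab; exact zero_ne_one hab.1
  have hG0 : G ≠ 0 := fun h => by rw [h, coeff_zero] at hab; exact zero_ne_one hab.2.2.2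
  have hl' : dmap D G + C (x.2 0) * F + C (x.2 1) * G = G * l := by
    refine mul_left_cancel₀ hF0 ?_
    rw [hdef, hl]; ring
  have hl0 : l = C (l.coeff 0) := by
    by_cases hlz : l = 0
    · simp [hlz]
    refine eq_C_of_natDegree_eq_zero ?_
    rcases natDegree_eq_or p he hF hG hc hW with h | h
    · have h2 := congrArg natDegree hl
      rw [natDegree_mul hF0 hlz, h] at h2
      have : (dmap D F - C (x.2 2) * G).natDegree ≤ d := (natDegree_sub_le _ _).trans
        (max_le ((natDegree_dmap_le D F).trans hF) ((natDegree_C_mul_le _ _).trans hG))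
      omega
    · have h2 := congrArg natDegree hl'
      rw [natDegree_mul hG0 hlz, h] at h2
      have : (dmap D G + C (x.2 0) * F + C (x.2 1) * G).natDegree ≤ d := (natDegree_add_le _ _).trans
        (max_le ((natDegree_add_le _ _).trans (max_le ((natDegree_dmap_le D G).trans hG) ((natDegree_C_mul_le _ _).trans hF)))
          ((natDegree_C_mul_le _ _).trans hG))
      omega
  rw [hl0, mul_comm F] at hl
  rw [hl0, mul_comm G] at hl'
  have h1 := congrArg (fun f => f.coeff a) hl
  have h2 := congrArg (fun f => f.coeff b) hl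
  have h3 := congrArg (fun f => f.coeff a) hl'
  have h4 := congrArg (fun f => f.coeff b) hl'
  simp only [coeff_sub, coeff_add, coeff_C_mul, coeff_dmap, hab.1, hab.2.1, hab.2.2.1, hab.2.2.2, mul_zero, mul_one,
    sub_zero, add_zero, zero_add, zero_sub, Derivation.map_one_eq_zero, map_zero, neg_eq_zero] at h1 h2 h3 h4
  have hx2 : x.2 = 0 := by
    funext j
    fin_cases j
    · exact h3
    · exact h4.trans h1.symm
    · exact h2
  rw [← h1, map_zero, zero_mul, show x.2 2 = 0 from congrFun hx2 2, map_zero, zero_mul, sub_zero] at hl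
  rw [← h1, map_zero, zero_mul, show x.2 0 = 0 from congrFun hx2 0, show x.2 1 = 0 from congrFun hx2 1, map_zero,
    zero_mul, zero_mul, add_zero, add_zero] at hl'
  have hFD : ∀ j, D (F.coeff j) = 0 := fun j => by rw [← coeff_dmap, hl, coeff_zero]
  have hGD : ∀ j, D (G.coeff j) = 0 := fun j => by rw [← coeff_dmap, hl', coeff_zero]
  have hPD : ∀ i, D (P i) = 0 := fun i => by
    set α := G.eval (P i) with hα
    set β := -(F.eval (P i)) with hβ
    have hτi : α * D β = β * D α := by
      have h := hτ i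
      simp only [tau, LinearMap.coe_mk, AddHom.coe_mk, hx2, Pi.zero_apply, zero_mul, add_zero, ← hD, ← hα, ← hβ] at h
      exact sub_eq_zero.mp h
    obtain ⟨u, hu⟩ := hdvd i
    obtain ⟨e', he'⟩ : ∃ e', e i = e' + 1 := ⟨e i - 1, by have := (he.1 i).1; omega⟩
    rw [he'] at hu
    have hΦ : C α * F + C β * G = (X - C (P i)) ^ (e' + 1) * u := by
      rw [← hu, mem0, hβ, map_neg, neg_mul, ← sub_eq_add_neg, hα]
    have hu0 : u.eval (P i) ≠ 0 := fun h => by
      have hd : (X - C (P i)) ^ (e' + 2) ∣ C α * F + C β * G := by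
        rw [hΦ, pow_succ _ (e' + 1)]
        exact mul_dvd_mul_left _ (dvd_iff_isRoot.mpr h)
      refine not_pow_dvd hP hc hW (fun j => le_trans (by norm_num) (he.1 j).1) i ?_
      rw [he']
      rcases eq_or_ne α 0 with h0 | h0
      · have hβ0 : β ≠ 0 := fun h => (hnv i).elim (fun hh => hh h0) (fun hh => hh (neg_eq_zero.mp h))
        have h' := Groth.Agent.PencilLim.pow_dvd_wronskian_pred hd (C 1 * F + C 0 * G)
        rw [Groth.Agent.PencilLim.wronskian_comb _ _ _ _ _ _ derivative_C derivative_C derivative_C derivative_C] at h'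
        simp only [map_zero, map_one, mul_zero, mul_one, zero_sub, Nat.add_one_sub_one] at h'
        exact ((isUnit_C.mpr (Ne.isUnit hβ0)).neg.dvd_mul_left).mp h'
      · have h' := Groth.Agent.PencilLim.pow_dvd_wronskian_pred hd (C 0 * F + C 1 * G)
        rw [Groth.Agent.PencilLim.wronskian_comb _ _ _ _ _ _ derivative_C derivative_C derivative_C derivative_C] at h'
        simp only [map_zero, map_one, mul_zero, mul_one, sub_zero, Nat.add_one_sub_one] at h'
        exact ((isUnit_C.mpr (Ne.isUnit h0)).dvd_mul_left).mp h'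
    have hDΦ := congrArg (dmap D) hΦ
    rw [dmap_add, dmap_mul, dmap_mul, dmap_mul, dmap_C, dmap_C, hl, hl', mul_zero, mul_zero, add_zero, add_zero,
      dmap_X_sub_C_pow] at hDΦ
    have hkey : ∀ s t : N, s * D α = t * α → s * D β = t * β → s ≠ 0 → D (P i) = 0 := fun s t h₁ h₂ hs => by
      have h₁' := congrArg C h₁
      have h₂' := congrArg C h₂
      simp only [map_mul] at h₁' h₂'
      have h5 : (X - C (P i)) ^ e' * ((X - C (P i)) * (C t * u)) =
          (X - C (P i)) ^ e' * (C s * (-(C (e' + 1 : N) * C (D (P i)) * u) + (X - C (P i)) * dmap D u)) := by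
        linear_combination C s * hDΦ - C t * hΦ - F * h₁' - G * h₂'
      have h6 := congrArg (eval (P i)) (mul_left_cancel₀ (pow_ne_zero _ (X_sub_C_ne_zero _)) h5)
      simp only [eval_mul, eval_add, eval_neg, eval_sub, eval_X, eval_C, sub_self, zero_mul, add_zero,
        zero_eq_mul, or_iff_right hs, neg_eq_zero, mul_eq_zero, or_iff_left hu0] at h6
      refine h6.resolve_left fun h => (he.1 i).2.2 ?_
      rw [he', ← CharP.cast_eq_zero_iff N p]
      exact_mod_cast h
    rcases eq_or_ne α 0 with h0 | h0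
    · have hβ0 : β ≠ 0 := fun h => (hnv i).elim (fun hh => hh h0) (fun hh => hh (neg_eq_zero.mp h))
      exact hkey β (D β) (by rw [← hτi, mul_comm]) (mul_comm _ _) hβ0
    · exact hkey α (D α) (mul_comm _ _) (by rw [hτi, mul_comm]) h0
  exact Prod.ext (hgenD D hPD hFD hGD) hx2

include he hP hF hG hc hW hnv hdvd hab hgenD in
theorem finrank_derivation_le [Module.Finite N (Derivation k N N)] (I : Finset (Fin n))
    (hI : ∀ x, (∀ i ∈ I, tau (k := k) F G (P i) x = 0) → ∀ i, tau (k := k) F G (P i) x = 0) :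
    Module.finrank N (Derivation k N N) ≤ I.card := by
  let T : (Derivation k N N × (Fin 3 → N)) →ₗ[N] (I → N) × (Fin 3 → N) :=
    (LinearMap.pi fun i : I => tau F G (P i)).prod
      (LinearMap.pi fun j : Fin 3 => (lcoeff N (2 * d - (j : ℕ))).comp (defo F G))
  have hT : Function.Injective T := by
    rw [← LinearMap.ker_eq_bot, LinearMap.ker_eq_bot']
    intro x hx
    exact eq_zero_of_tau p he hP hF hG hc hW hnv hdvd hab hgenD x
      (hI x fun i hi => congrFun (congrArg Prod.fst hx) ⟨i, hi⟩) fun j => congrFun (congrArg Prod.snd hx) j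
  have h := LinearMap.finrank_le_finrank_of_injective hT
  simp only [Module.finrank_prod, Module.finrank_fin_fun, Module.finrank_fintype_fun_eq_card, Fintype.card_coe] at h
  omega

include he hF hG hc hW hnv hdvd hab hgenD in
/-- The main generic statement. -/
theorem isAlgebraic_and_mem0_eval_ne [Algebra.EssFiniteType k N] (hind : AlgebraicIndependent k P) :
    Algebra.IsAlgebraic (Algebra.adjoin k (Set.range P)) N ∧
      ∀ i j, i ≠ j → (mem0 F G (P i)).eval (P j) ≠ 0 := by
  classical
  have hP : Function.Injective P := hind.injective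
  obtain ⟨hfin, hle⟩ := trdeg_le_finrank_derivation (k := k) (N := N)
  haveI := hfin
  have hlow : (n : Cardinal.{u}) ≤ Algebra.trdeg k N := by
    have := hind.lift_cardinalMk_le_trdeg
    simpa using this
  have hfinT : Algebra.trdeg k N < Cardinal.aleph0 := by
    obtain ⟨s, hs⟩ := IntermediateField.fg_top k N
    haveI : Algebra.IsAlgebraic (Algebra.adjoin k (s : Set N)) N := by
      rw [← IntermediateField.isAlgebraic_adjoin_iff_top, hs, Algebra.isAlgebraic_iff_isIntegral]
      exact Algebra.isIntegral_of_surjective IntermediateField.topEquiv.surjective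
    obtain ⟨t, hts, ht⟩ := exists_isTranscendenceBasis_subset (R := k) (s : Set N)
    rw [← ht.cardinalMk_eq_trdeg]
    exact Cardinal.lt_aleph0_iff_finite.mpr ((s.finite_toSet.subset hts).to_subtype)
  have hn : n ≤ Cardinal.toNat (Algebra.trdeg k N) := by
    simpa using Cardinal.toNat_le_toNat hlow hfinT
  constructor
  · have h := finrank_derivation_le p he hP hF hG hc hW hnv hdvd hab hgenD Finset.univ (fun x hx i => hx i (Finset.mem_univ i))
    rw [Finset.card_univ, Fintype.card_fin] at h
    have heq : Algebra.trdeg k N = n := by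
      rw [← Cardinal.cast_toNat_of_lt_aleph0 hfinT]
      exact_mod_cast le_antisymm (hle.trans h) hn
    have hb : IsTranscendenceBasis k P := hind.isTranscendenceBasis_of_lift_trdeg_le_of_finite (by simp [heq])
    exact hb.isAlgebraic
  · intro i j hij h0
    have h := finrank_derivation_le p he hP hF hG hc hW hnv hdvd hab hgenD (Finset.univ.erase j) (fun x hx l => by
      by_cases hl : l = j
      · subst hl
        have hi := hx i (Finset.mem_erase.mpr ⟨hij, Finset.mem_univ _⟩)
        rw [mem0, eval_sub, eval_mul, eval_mul, eval_C, eval_C] at h0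
        obtain ⟨r, hr1, hr2⟩ : ∃ r : N, G.eval (P l) = r * G.eval (P i) ∧ F.eval (P l) = r * F.eval (P i) := by
          rcases hnv i with h | h
          · exact ⟨G.eval (P l) / G.eval (P i), by field_simp, by field_simp; linear_combination h0⟩
          · exact ⟨F.eval (P l) / F.eval (P i), by field_simp; linear_combination -h0, by field_simp⟩
        have : tau (k := k) F G (P l) x = r ^ 2 * tau (k := k) F G (P i) x := by
          simp only [tau, LinearMap.coe_mk, AddHom.coe_mk, hr1, hr2, map_neg, Derivation.leibniz, smul_eq_mul]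
          ring
        rw [this, hi, mul_zero]
      · exact hx l (Finset.mem_erase.mpr ⟨hl, Finset.mem_univ _⟩))
    rw [Finset.card_erase_of_mem (Finset.mem_univ j), Finset.card_univ, Fintype.card_fin] at h
    have := j.pos
    omega

end Groth.Agent.RamPencil
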