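import Groth.Agent.RamPencil.Generic
import Groth.Prelude.Def_W4c1limliniiiiRamP1

/-!
# Equations for pencils with prescribed ramification, and spreading out
-/

set_option autoImplicit false

universe u

namespace Groth.Agent.RamPencil

open W4c1limliniiii
open Polynomial (C X monomial wronskian derivative_C)

variable {k : Type u} [Field k] {d n : ℕ}

/-- Variables: points, coefficients, auxiliary inverses. -/
inductive Var (n d : ℕ) : Type
  | pt (i : Fin n)
  | co (l : Fin 2) (j : Fin (d + 1))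
  | uv (i : Fin n) (l : Fin 2)
  | sc (l : Fin 2)

instance : Finite (Var n d) := by
  let f : Var n d → Fin n ⊕ (Fin 2 × Fin (d + 1)) ⊕ (Fin n × Fin 2) ⊕ Fin 2 := fun v => match v with
    | .pt i => .inl i
    | .co l j => .inr (.inl (l, j))
    | .uv i l => .inr (.inr (.inl (i, l)))
    | .sc l => .inr (.inr (.inr l))
  refine Finite.of_injective f ?_
  intro v w h
  cases v <;> cases w <;> simp_all [f]

/-- The polynomial with the given coefficient vector. -/
noncomputable def ofVec {N : Type*} [CommRing N] (v : Fin (d + 1) → N) : Polynomial N :=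
  ∑ j : Fin (d + 1), monomial (j : ℕ) (v j)

theorem coeff_ofVec {N : Type*} [CommRing N] (v : Fin (d + 1) → N) (i : Fin (d + 1)) :
    (ofVec v).coeff i = v i := by
  simp [ofVec, Polynomial.coeff_monomial, Fin.val_inj]

theorem natDegree_ofVec_le {N : Type*} [CommRing N] (v : Fin (d + 1) → N) : (ofVec v).natDegree ≤ d :=
  Polynomial.natDegree_sum_le_of_forall_le _ _ fun j _ => (Polynomial.natDegree_monomial_le _).trans (by have := j.2; omega)

theorem map_ofVec {N M : Type*} [CommRing N] [CommRing M] (f : N →+* M) (v : Fin (d + 1) → N) :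
    (ofVec v).map f = ofVec (fun j => f (v j)) := by
  simp [ofVec, Polynomial.map_sum]

theorem ofVec_coeff {N : Type*} [CommRing N] {F : Polynomial N} (hF : F.natDegree ≤ d) :
    ofVec (fun j : Fin (d + 1) => F.coeff j) = F := by
  rw [ofVec, Fin.sum_univ_eq_sum_range (fun j => monomial j (F.coeff j))]
  exact (F.as_sum_range' (d + 1) (by omega)).symm

variable (e : Fin n → ℕ)

/-- A solution of the system with values in `N`. -/
structure Sol (a b : Fin (d + 1)) {N : Type*} [CommRing N] (x : Var n d → N) : Prop where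
  piv : x (.co 0 a) = 1 ∧ x (.co 0 b) = 0 ∧ x (.co 1 a) = 0 ∧ x (.co 1 b) = 1
  scal : x (.sc 0) * x (.sc 1) = 1
  nv : ∀ i, x (.uv i 0) * (ofVec fun j => x (.co 1 j)).eval (x (.pt i)) +
    x (.uv i 1) * (ofVec fun j => x (.co 0 j)).eval (x (.pt i)) = 1
  wr : wronskian (ofVec fun j => x (.co 0 j)) (ofVec fun j => x (.co 1 j)) =
    C (x (.sc 0)) * ∏ i, (X - C (x (.pt i))) ^ (e i - 1)
  dvd : ∀ i, (X - C (x (.pt i))) ^ e i ∣ C ((ofVec fun j => x (.co 1 j)).eval (x (.pt i))) * (ofVec fun j => x (.co 0 j)) -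
    C ((ofVec fun j => x (.co 0 j)).eval (x (.pt i))) * ofVec (fun j => x (.co 1 j))

variable (k)

local notation "R" => MvPolynomial (Var n d) k
local notation "genF" => ofVec (fun j => (MvPolynomial.X (Var.co 0 j) : R))
local notation "genG" => ofVec (fun j => (MvPolynomial.X (Var.co 1 j) : R))
local notation "genP" => fun i => (MvPolynomial.X (Var.pt i) : R)

/-- The member of the generic pencil vanishing at the `i`-th point. -/
noncomputable def genMem (i : Fin n) : Polynomial R :=
  C (Polynomial.eval (genP i) genG) * genF - C (Polynomial.eval (genP i) genF) * genG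

/-- The defining ideal of the space of solutions in a chart. -/
noncomputable def eqns (a b : Fin (d + 1)) : Ideal R :=
  Ideal.span ({MvPolynomial.X (Var.co 0 a) - 1, MvPolynomial.X (Var.co 0 b), MvPolynomial.X (Var.co 1 a),
      MvPolynomial.X (Var.co 1 b) - 1, MvPolynomial.X (Var.sc 0) * MvPolynomial.X (Var.sc 1) - 1} ∪
    Set.range (fun i => MvPolynomial.X (Var.uv i 0) * Polynomial.eval (genP i) genG +
      MvPolynomial.X (Var.uv i 1) * Polynomial.eval (genP i) genF - 1) ∪
    Set.range (fun j : ℕ => (wronskian genF genG -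
      C (MvPolynomial.X (Var.sc 0)) * ∏ i, (X - C (genP i)) ^ (e i - 1)).coeff j) ∪
    Set.range (fun q : Fin n × ℕ => (genMem k q.1 %ₘ (X - C (genP q.1)) ^ e q.1).coeff q.2))

theorem map_genMem {N : Type*} [CommRing N] (ψ : R →+* N) (i : Fin n) :
    (genMem k i).map ψ = C ((ofVec fun j => ψ (MvPolynomial.X (Var.co 1 j))).eval (ψ (genP i))) *
        (ofVec fun j => ψ (MvPolynomial.X (Var.co 0 j))) -
      C ((ofVec fun j => ψ (MvPolynomial.X (Var.co 0 j))).eval (ψ (genP i))) *
        (ofVec fun j => ψ (MvPolynomial.X (Var.co 1 j))) := by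
  have h : ∀ H : Polynomial R, ψ (H.eval (genP i)) = (H.map ψ).eval (ψ (genP i)) := fun H =>
    (Polynomial.eval_map_apply ψ _).symm
  rw [genMem, Polynomial.map_sub, Polynomial.map_mul, Polynomial.map_mul, Polynomial.map_C, Polynomial.map_C,
    h, h, map_ofVec, map_ofVec]

theorem eqns_le_ker_iff (a b : Fin (d + 1)) {N : Type*} [CommRing N] (ψ : R →+* N) :
    eqns k e a b ≤ RingHom.ker ψ ↔ Sol e a b (fun v => ψ (MvPolynomial.X v)) := by
  have hmod : ∀ i, (∀ j, ψ ((genMem k i %ₘ (X - C (genP i)) ^ e i).coeff j) = 0) ↔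
      (X - C (ψ (genP i))) ^ e i ∣ (genMem k i).map ψ := fun i => by
    rw [← Polynomial.modByMonic_eq_zero_iff_dvd ((Polynomial.monic_X_sub_C _).pow _),
      show (X - C (ψ (genP i))) ^ e i = ((X - C (genP i)) ^ e i).map ψ by simp,
      ← Polynomial.map_modByMonic _ ((Polynomial.monic_X_sub_C _).pow _), Polynomial.ext_iff]
    simp [Polynomial.coeff_map]
  have hW : (∀ j, ψ ((wronskian genF genG -
      C (MvPolynomial.X (Var.sc 0)) * ∏ i, (X - C (genP i)) ^ (e i - 1)).coeff j) = 0) ↔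
      wronskian (ofVec fun j => ψ (MvPolynomial.X (Var.co 0 j))) (ofVec fun j => ψ (MvPolynomial.X (Var.co 1 j))) =
        C (ψ (MvPolynomial.X (Var.sc 0))) * ∏ i, (X - C (ψ (genP i))) ^ (e i - 1) := by
    rw [← sub_eq_zero, Polynomial.ext_iff]
    refine forall_congr' fun j => ?_
    rw [← Polynomial.coeff_map, Polynomial.map_sub, Groth.Agent.PencilLim.map_wronskian, map_ofVec, map_ofVec,
      Polynomial.map_mul, Polynomial.map_C, Polynomial.map_prod]
    simp
  simp only [eqns, Ideal.span_le, Set.union_subset_iff, Set.insert_subset_iff, Set.singleton_subset_iff,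
    Set.range_subset_iff, SetLike.mem_coe, RingHom.mem_ker, map_sub, map_mul, map_one, map_add, sub_eq_zero,
    ← Polynomial.eval_map_apply (f := ψ), map_ofVec, Prod.forall]
  constructor
  · rintro ⟨⟨⟨⟨h1, h2, h3, h4, h5⟩, h6⟩, h7⟩, h8⟩
    exact ⟨⟨h1, h2, h3, h4⟩, h5, h6, hW.mp h7, fun i => map_genMem k ψ i ▸ (hmod i).mp (h8 i)⟩
  · rintro ⟨⟨h1, h2, h3, h4⟩, h5, h6, h7, h8⟩
    exact ⟨⟨⟨⟨h1, h2, h3, h4, h5⟩, h6⟩, hW.mpr h7⟩, fun i => (hmod i).mpr ((map_genMem k ψ i).symm ▸ h8 i)⟩

variable {k}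
variable (p : ℕ) [CharP k p]

theorem prime_indep (he : Admissible p d e) (a b : Fin (d + 1)) (q : Ideal R) [q.IsPrime]
    (hq : eqns k e a b ≤ q)
    (hind : ∀ φ : MvPolynomial (Fin n) k, MvPolynomial.rename Var.pt φ ∈ q → φ = 0) :
    (∀ l j, ∃ Q : Polynomial (MvPolynomial (Fin n) k), Q ≠ 0 ∧
      Q.eval₂ (MvPolynomial.rename Var.pt).toRingHom (MvPolynomial.X (Var.co l j)) ∈ q) ∧
    ∀ i j, i ≠ j → (genMem k i).eval (genP j) ∉ q := by
  let L := FractionRing (R ⧸ q)
  let ψ : R →ₐ[k] L := (IsScalarTower.toAlgHom k (R ⧸ q) L).comp (Ideal.Quotient.mkₐ k q)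
  have hker : RingHom.ker ψ.toRingHom = q := by
    ext r
    rw [RingHom.mem_ker]
    show algebraMap (R ⧸ q) L (Ideal.Quotient.mk q r) = 0 ↔ _
    rw [map_eq_zero_iff _ (IsFractionRing.injective _ _), Ideal.Quotient.eq_zero_iff_mem]
  have hsol := (eqns_le_ker_iff k e a b ψ.toRingHom).mp (hker.symm ▸ hq)
  let x : Var n d → L := fun v => ψ (MvPolynomial.X v)
  let gens : Fin n ⊕ (Fin 2 × Fin (d + 1)) → L := Sum.elim (fun i => x (.pt i)) fun lj => x (.co lj.1 lj.2)
  let N : IntermediateField k L := IntermediateField.adjoin k (Set.range gens)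
  haveI : Algebra.EssFiniteType k N := IntermediateField.essFiniteType_iff.mpr
    (IntermediateField.fg_adjoin_of_finite (Set.finite_range gens))
  let y : Fin n ⊕ (Fin 2 × Fin (d + 1)) → N := fun v => ⟨gens v, IntermediateField.subset_adjoin _ _ ⟨v, rfl⟩⟩
  let P : Fin n → N := fun i => y (.inl i)
  let F : Polynomial N := ofVec fun j => y (.inr (0, j))
  let G : Polynomial N := ofVec fun j => y (.inr (1, j))
  have hι : Function.Injective (N.val.toRingHom) := N.val.injective
  have hFL : F.map N.val.toRingHom = ofVec fun j => x (.co 0 j) := map_ofVec _ _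
  have hGL : G.map N.val.toRingHom = ofVec fun j => x (.co 1 j) := map_ofVec _ _
  have hPP : ∀ i, N.val.toRingHom (P i) = x (.pt i) := fun i => rfl
  set Wn := ∏ i, (X - C (P i)) ^ (e i - 1) with hWn
  have hWnL : Wn.map N.val.toRingHom = ∏ i, (X - C (x (.pt i))) ^ (e i - 1) := by
    simp only [hWn, Polynomial.map_prod, Polynomial.map_pow, Polynomial.map_sub, Polynomial.map_X, Polynomial.map_C, hPP]
  have hmon : Wn.Monic := Polynomial.monic_prod_of_monic _ _ fun i _ => (Polynomial.monic_X_sub_C _).pow _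
  have hdegWn : Wn.natDegree = 2 * d - 2 := natDegree_prod (P := P) p he
  have hwr : wronskian (ofVec fun j => x (.co 0 j)) (ofVec fun j => x (.co 1 j)) =
      C (x (.sc 0)) * ∏ i, (X - C (x (.pt i))) ^ (e i - 1) := hsol.wr
  set c := (wronskian F G).coeff (2 * d - 2) with hcdef
  have hcL : N.val.toRingHom c = x (.sc 0) := by
    rw [hcdef, ← Polynomial.coeff_map, Groth.Agent.PencilLim.map_wronskian, hFL, hGL, hwr, ← hWnL, Polynomial.coeff_C_mul,
      ← hdegWn, Polynomial.coeff_map, hmon.coeff_natDegree, map_one, mul_one]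
  have hc : c ≠ 0 := fun h => by
    have h1 := hsol.scal
    rw [show ψ.toRingHom (MvPolynomial.X (Var.sc 0)) = N.val.toRingHom c from hcL.symm, h, map_zero, zero_mul] at h1
    exact zero_ne_one h1
  have hW : wronskian F G = C c * Wn := Polynomial.map_injective _ hι (by
    rw [Groth.Agent.PencilLim.map_wronskian, hFL, hGL, Polynomial.map_mul, Polynomial.map_C, hcL, hWnL]
    exact hsol.wr)
  have hnv : ∀ i, G.eval (P i) ≠ 0 ∨ F.eval (P i) ≠ 0 := fun i => by
    by_contra! h
    have h1 := hsol.nv i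
    have hg : (ofVec fun j => x (.co 1 j)).eval (x (.pt i)) = 0 := by
      rw [← hGL, ← hPP, Polynomial.eval_map_apply, h.1, map_zero]
    have hf : (ofVec fun j => x (.co 0 j)).eval (x (.pt i)) = 0 := by
      rw [← hFL, ← hPP, Polynomial.eval_map_apply, h.2, map_zero]
    change ψ _ * (ofVec fun j => x (.co 1 j)).eval (x (.pt i)) + ψ _ * (ofVec fun j => x (.co 0 j)).eval (x (.pt i)) = 1 at h1
    rw [hg, hf, mul_zero, mul_zero, add_zero] at h1
    exact zero_ne_one h1
  have hmem : ∀ i, (mem0 F G (P i)).map N.val.toRingHom = C ((ofVec fun j => x (.co 1 j)).eval (x (.pt i))) *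
      (ofVec fun j => x (.co 0 j)) - C ((ofVec fun j => x (.co 0 j)).eval (x (.pt i))) * ofVec (fun j => x (.co 1 j)) := fun i => by
    have h : ∀ H : Polynomial N, N.val.toRingHom (H.eval (P i)) = (H.map N.val.toRingHom).eval (x (.pt i)) :=
      fun H => (Polynomial.eval_map_apply _ _).symm
    rw [mem0, Polynomial.map_sub, Polynomial.map_mul, Polynomial.map_mul, Polynomial.map_C, Polynomial.map_C, h, h, hFL, hGL]
  have hdvd : ∀ i, (X - C (P i)) ^ e i ∣ mem0 F G (P i) := fun i => by
    rw [← Polynomial.map_dvd_map N.val.toRingHom hι ((Polynomial.monic_X_sub_C _).pow _), hmem, Polynomial.map_pow,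
      Polynomial.map_sub, Polynomial.map_X, Polynomial.map_C, hPP]
    exact hsol.dvd i
  have hpiv : F.coeff a = 1 ∧ F.coeff b = 0 ∧ G.coeff a = 0 ∧ G.coeff b = 1 :=
    ⟨(coeff_ofVec _ a).trans (Subtype.ext hsol.piv.1), (coeff_ofVec _ b).trans (Subtype.ext hsol.piv.2.1),
      (coeff_ofVec _ a).trans (Subtype.ext hsol.piv.2.2.1), (coeff_ofVec _ b).trans (Subtype.ext hsol.piv.2.2.2)⟩
  have hgenD : ∀ D : Derivation k N N, (∀ i, D (P i) = 0) → (∀ j, D (F.coeff j) = 0) → (∀ j, D (G.coeff j) = 0) → D = 0 := by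
    intro D hDP hDF hDG
    have hy : ∀ v, D (y v) = 0 := by
      rintro (i | ⟨l, j⟩)
      · exact hDP i
      · fin_cases l
        · exact (congrArg D (coeff_ofVec (fun j => y (.inr (0, j))) j)).symm.trans (hDF j)
        · exact (congrArg D (coeff_ofVec (fun j => y (.inr (1, j))) j)).symm.trans (hDG j)
    ext ⟨z, hz⟩
    suffices D ⟨z, hz⟩ = 0 by rw [this]; rfl
    induction hz using IntermediateField.adjoin_induction with
    | mem z hz => obtain ⟨v, rfl⟩ := hz; exact hy v
    | algebraMap r => exact D.map_algebraMap r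
    | add z w hz hw h1 h2 =>
      rw [show (⟨z + w, _⟩ : N) = ⟨z, hz⟩ + ⟨w, hw⟩ from rfl, map_add, h1, h2, add_zero]
    | inv z hz h1 =>
      rw [show (⟨z⁻¹, _⟩ : N) = (⟨z, hz⟩ : N)⁻¹ from rfl, Derivation.leibniz_inv, h1, smul_zero]
    | mul z w hz hw h1 h2 =>
      rw [show (⟨z * w, _⟩ : N) = ⟨z, hz⟩ * ⟨w, hw⟩ from rfl, Derivation.leibniz, h1, h2, smul_zero, smul_zero, add_zero]
  have hxind : AlgebraicIndependent k (fun i => x (.pt i)) := by
    rw [algebraicIndependent_iff]
    intro φ hφ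
    refine hind φ ?_
    rw [← hker, RingHom.mem_ker]
    show ψ (MvPolynomial.rename Var.pt φ) = 0
    rw [← hφ, ← AlgHom.comp_apply]
    exact congrArg (fun f : MvPolynomial (Fin n) k →ₐ[k] L => f φ) (MvPolynomial.algHom_ext fun i => by simp [x])
  have hPind : AlgebraicIndependent k P := AlgebraicIndependent.of_comp N.val (hxind : AlgebraicIndependent k (N.val ∘ P))
  obtain ⟨halg, hne⟩ := isAlgebraic_and_mem0_eval_ne p he (natDegree_ofVec_le _) (natDegree_ofVec_le _) hc hW hnv hdvd
    hpiv hgenD hPind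
  refine ⟨fun l j => ?_, fun i j hij hmemq => hne i j hij ?_⟩
  · obtain ⟨Q₀, hQ₀, hQ₀y⟩ := halg.isAlgebraic (y (.inr (l, j)))
    refine ⟨Q₀.map (hPind.aevalEquiv.symm.toRingEquiv.toRingHom), (Polynomial.map_ne_zero_iff (EquivLike.injective hPind.aevalEquiv.symm)).mpr hQ₀, ?_⟩
    refine hker.le (RingHom.mem_ker.mpr ?_)
    rw [Polynomial.hom_eval₂, Polynomial.eval₂_map]
    have h2 := congrArg N.val.toRingHom hQ₀y
    rw [map_zero, Polynomial.aeval_def, Polynomial.hom_eval₂] at h2
    rw [← h2]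
    refine congrArg₂ (fun f t => Polynomial.eval₂ f t Q₀) (RingHom.ext fun z => ?_) rfl
    show ψ (MvPolynomial.rename Var.pt (hPind.aevalEquiv.symm z)) = N.val (z : N)
    conv_rhs => rw [← hPind.aevalEquiv.apply_symm_apply z]
    rw [← AlgHom.comp_apply, show ((hPind.aevalEquiv (hPind.aevalEquiv.symm z) : Algebra.adjoin k (Set.range P)) : N) =
      MvPolynomial.aeval P (hPind.aevalEquiv.symm z) from hPind.algebraMap_aevalEquiv _, ← AlgHom.comp_apply]
    exact congrArg (fun f : MvPolynomial (Fin n) k →ₐ[k] L => f _) (MvPolynomial.algHom_ext fun i => by simp [P, y, gens, x])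
  · refine hι ?_
    rw [map_zero, ← Polynomial.eval_map_apply, hmem]
    replace hmemq := RingHom.mem_ker.mp (hker.ge hmemq)
    rw [← Polynomial.eval_map_apply, map_genMem] at hmemq
    exact hmemq

/-- Spreading out: away from a hypersurface, points of `J` lie on components dominating the space of points. -/
theorem exists_avoid (J : Ideal R) :
    ∃ Φ : MvPolynomial (Fin n) k, Φ ≠ 0 ∧ ∀ x : Var n d → k, MvPolynomial.eval (fun i => x (.pt i)) Φ ≠ 0 →
      J ≤ RingHom.ker (MvPolynomial.eval x) → ∃ q ∈ J.minimalPrimes, q ≤ RingHom.ker (MvPolynomial.eval x) ∧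
        ∀ φ, MvPolynomial.rename Var.pt φ ∈ q → φ = 0 := by
  classical
  have hfin := Ideal.finite_minimalPrimes_of_isNoetherianRing R J
  have hchoose : ∀ q : Ideal R, ∃ φ : MvPolynomial (Fin n) k, φ ≠ 0 ∧
      (MvPolynomial.rename Var.pt φ ∈ q ∨ ∀ φ, MvPolynomial.rename Var.pt φ ∈ q → φ = 0) := fun q => by
    by_cases h : ∀ φ, MvPolynomial.rename Var.pt φ ∈ q → φ = 0
    · exact ⟨1, one_ne_zero, Or.inr h⟩
    · push Not at h
      obtain ⟨φ, h1, h2⟩ := h
      exact ⟨φ, h2, Or.inl h1⟩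
  choose φ hφ0 hφ using hchoose
  refine ⟨∏ q ∈ hfin.toFinset, φ q, Finset.prod_ne_zero_iff.mpr fun q _ => hφ0 q, fun x hx hJ => ?_⟩
  haveI : (RingHom.ker (MvPolynomial.eval x)).IsPrime := RingHom.ker_isPrime _
  obtain ⟨q, hq, hqx⟩ := Ideal.exists_minimalPrimes_le hJ
  refine ⟨q, hq, hqx, (hφ q).resolve_left fun hmem => ?_⟩
  rw [map_prod, Finset.prod_ne_zero_iff] at hx
  refine hx q (hfin.mem_toFinset.mpr hq) ?_
  have h := hqx hmem
  rwa [RingHom.mem_ker, MvPolynomial.eval_rename] at h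

theorem exists_good_hypersurface (he : Admissible p d e) (a b : Fin (d + 1)) :
    ∃ Φ : MvPolynomial (Fin n) k, Φ ≠ 0 ∧ ∀ P : Fin n → k, MvPolynomial.eval P Φ ≠ 0 →
      {y : Fin 2 → Fin (d + 1) → k | ∃ x : Var n d → k, Sol e a b x ∧ (∀ i, x (.pt i) = P i) ∧
        ∀ l j, y l j = x (.co l j)}.Finite ∧
      ∀ x : Var n d → k, Sol e a b x → (∀ i, x (.pt i) = P i) → ∀ i j, i ≠ j →
        (C ((ofVec fun j => x (.co 1 j)).eval (P i)) * (ofVec fun j => x (.co 0 j)) -
          C ((ofVec fun j => x (.co 0 j)).eval (P i)) * ofVec (fun j => x (.co 1 j))).eval (P j) ≠ 0 := by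
  classical
  set I := eqns k e a b
  have hfin := Ideal.finite_minimalPrimes_of_isNoetherianRing R I
  -- polynomials satisfied by the coordinates
  have hQ : ∀ l j, ∀ q : Ideal R, ∃ Q : Polynomial (MvPolynomial (Fin n) k), Q ≠ 0 ∧
      (q ∈ I.minimalPrimes → (∀ φ, MvPolynomial.rename Var.pt φ ∈ q → φ = 0) →
        Q.eval₂ (MvPolynomial.rename Var.pt).toRingHom (MvPolynomial.X (Var.co l j)) ∈ q) := fun l j q => by
    by_cases h : q ∈ I.minimalPrimes ∧ ∀ φ, MvPolynomial.rename Var.pt φ ∈ q → φ = 0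
    · haveI : q.IsPrime := h.1.1.1
      obtain ⟨Q, hQ0, hQ⟩ := (prime_indep e p he a b q h.1.1.2 h.2).1 l j
      exact ⟨Q, hQ0, fun _ _ => hQ⟩
    · exact ⟨1, one_ne_zero, fun h1 h2 => absurd ⟨h1, h2⟩ h⟩
  choose Q hQ0 hQ using hQ
  let QQ : Fin 2 → Fin (d + 1) → Polynomial (MvPolynomial (Fin n) k) := fun l j => ∏ q ∈ hfin.toFinset, Q l j q
  have hQQ : ∀ l j, QQ l j ≠ 0 := fun l j => Finset.prod_ne_zero_iff.mpr fun q _ => hQ0 l j q
  obtain ⟨Φ₀, hΦ₀, hΦ₀'⟩ := exists_avoid I
  choose Φ₁ hΦ₁ hΦ₁' using fun i j : Fin n => exists_avoid (I ⊔ Ideal.span {(genMem k (d := d) i).eval (MvPolynomial.X (Var.pt j))})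
  refine ⟨Φ₀ * (∏ i, ∏ j, Φ₁ i j) * ∏ l, ∏ j, (QQ l j).leadingCoeff, ?_, fun P hP => ?_⟩
  · exact mul_ne_zero (mul_ne_zero hΦ₀ (Finset.prod_ne_zero_iff.mpr fun i _ => Finset.prod_ne_zero_iff.mpr fun j _ => hΦ₁ i j))
      (Finset.prod_ne_zero_iff.mpr fun l _ => Finset.prod_ne_zero_iff.mpr fun j _ => Polynomial.leadingCoeff_ne_zero.mpr (hQQ l j))
  simp only [map_mul, map_prod, mul_ne_zero_iff, Finset.prod_ne_zero_iff] at hP
  obtain ⟨⟨hP₀, hP₁⟩, hP₂⟩ := hP
  have hker : ∀ x : Var n d → k, Sol e a b x → I ≤ RingHom.ker (MvPolynomial.eval x) := fun x hx =>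
    (eqns_le_ker_iff k e a b _).mpr (by simpa using hx)
  constructor
  · have hne : ∀ l j, (QQ l j).map (MvPolynomial.eval P) ≠ 0 := fun l j h => by
      have h2 := congrArg (fun f => f.coeff (QQ l j).natDegree) h
      rw [Polynomial.coeff_map, Polynomial.coeff_zero] at h2
      exact hP₂ l (Finset.mem_univ l) j (Finset.mem_univ j) h2
    refine (Set.Finite.pi' fun l => Set.Finite.pi' fun j =>
      (((QQ l j).map (MvPolynomial.eval P)).roots.toFinset : Finset k).finite_toSet).subset ?_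
    rintro y ⟨x, hx, hxP, hy⟩ l j
    rw [Finset.mem_coe, Multiset.mem_toFinset, Polynomial.mem_roots (hne l j), Polynomial.IsRoot, Polynomial.eval_map, hy]
    have hxP' : (fun i => x (.pt i)) = P := funext hxP
    obtain ⟨q, hq, hqx, hqind⟩ := hΦ₀' x (hxP'.symm ▸ hP₀) (hker x hx)
    simp only [QQ, Polynomial.eval₂_finsetProd]
    refine Finset.prod_eq_zero (hfin.mem_toFinset.mpr hq) ?_
    have h := hqx (hQ l j q hq hqind)
    rw [RingHom.mem_ker, Polynomial.hom_eval₂, MvPolynomial.eval_X] at h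
    rw [← h]
    refine congrArg (fun f => Polynomial.eval₂ f _ _) (RingHom.ext fun φ => ?_)
    rw [← hxP']
    exact (MvPolynomial.eval_rename _ _ _).symm
  · intro x hx hxP i j hij h0
    have hxP' : (fun i => x (.pt i)) = P := funext hxP
    have hle : I ⊔ Ideal.span {(genMem k (d := d) i).eval (MvPolynomial.X (Var.pt j))} ≤ RingHom.ker (MvPolynomial.eval x) := by
      refine sup_le (hker x hx) ((Ideal.span_singleton_le_iff_mem _).mpr ?_)
      rw [RingHom.mem_ker, ← Polynomial.eval_map_apply, map_genMem]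
      simpa [hxP] using h0
    obtain ⟨q, hq, -, hqind⟩ := hΦ₁' i j x (hxP'.symm ▸ hP₁ i (Finset.mem_univ i) j (Finset.mem_univ j)) hle
    haveI : q.IsPrime := hq.1.1
    exact (prime_indep e p he a b q (le_sup_left.trans hq.1.2) hqind).2 i j hij
      (hq.1.2 (Submodule.mem_sup_right (Ideal.mem_span_singleton_self _)))

/-- Off a hypersurface the pencils are finite and separate the points. -/
theorem ramMaps_finite_and_separated (he : Admissible p d e) :
    ∃ Φ : MvPolynomial (Fin n) k, Φ ≠ 0 ∧ ∀ P : Fin n → k, MvPolynomial.eval P Φ ≠ 0 →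
      (ramMaps d P e).Finite ∧
        ∀ V ∈ ramMaps d P e, ∀ i j : Fin n, i ≠ j → ∀ s ∈ V, (s.IsRoot (P i) ∧ s.IsRoot (P j)) → s = 0 := by
  classical
  choose Φ hΦ0 hΦ using fun a b => exists_good_hypersurface e p he (d := d) a b (k := k)
  let Δ : MvPolynomial (Fin n) k := ∏ i, ∏ j, if i = j then 1 else MvPolynomial.X i - MvPolynomial.X j
  refine ⟨Δ * ∏ a, ∏ b, Φ a b, mul_ne_zero (Finset.prod_ne_zero_iff.mpr fun i _ => Finset.prod_ne_zero_iff.mpr fun j _ => ?_)
    (Finset.prod_ne_zero_iff.mpr fun a _ => Finset.prod_ne_zero_iff.mpr fun b _ => hΦ0 a b), fun P hP => ?_⟩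
  · split_ifs with hij
    · exact one_ne_zero
    · exact sub_ne_zero.mpr fun h => hij (MvPolynomial.X_injective h)
  simp only [map_mul, map_prod, mul_ne_zero_iff, Finset.prod_ne_zero_iff, Δ] at hP
  have hPinj : Function.Injective P := fun i j h => by
    by_contra hij
    refine hP.1 i (Finset.mem_univ i) j (Finset.mem_univ j) ?_
    rw [if_neg hij, map_sub, MvPolynomial.eval_X, MvPolynomial.eval_X, h, sub_self]
  have key : ∀ V ∈ ramMaps d P e, ∃ (a b : Fin (d + 1)) (x : Var n d → k), Sol e a b x ∧ (∀ i, x (.pt i) = P i) ∧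
      V = Submodule.span k {ofVec fun j => x (.co 0 j), ofVec fun j => x (.co 1 j)} ∧
      ofVec (fun j => x (.co 0 j)) ≠ 0 := by
    rintro V ⟨⟨hle, hfr, -, hnv⟩, hsep, hram⟩
    haveI : FiniteDimensional k V := Module.finite_of_finrank_pos (by omega)
    have hdeg : ∀ s ∈ V, s.natDegree ≤ d := fun s hs => Polynomial.natDegree_le_iff_degree_le.mpr (Polynomial.mem_degreeLE.mp (hle hs))
    -- an echelon basis
    obtain ⟨s₁, hs₁, hs₁0⟩ := Submodule.exists_mem_ne_zero_of_ne_bot (p := V) fun h => by rw [h, finrank_bot] at hfr; omega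
    obtain ⟨G₀, hG₀, hG₀0, hG₀a⟩ : ∃ g ∈ V, g ≠ 0 ∧ g.coeff s₁.natDegree = 0 := by
      let f : V →ₗ[k] k := (Polynomial.lcoeff k s₁.natDegree).comp V.subtype
      have hk : LinearMap.ker f ≠ ⊥ := fun h => by
        have := LinearMap.finrank_le_finrank_of_injective (LinearMap.ker_eq_bot.mp h)
        rw [Module.finrank_self, hfr] at this
        omega
      obtain ⟨g, hg, hg0⟩ := Submodule.exists_mem_ne_zero_of_ne_bot hk
      exact ⟨g, g.2, fun h => hg0 (Subtype.ext h), LinearMap.mem_ker.mp hg⟩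
    let a : Fin (d + 1) := ⟨s₁.natDegree, by have := hdeg _ hs₁; omega⟩
    let b : Fin (d + 1) := ⟨G₀.natDegree, by have := hdeg _ hG₀; omega⟩
    let G : Polynomial k := G₀.leadingCoeff⁻¹ • G₀
    let F₀ : Polynomial k := s₁.leadingCoeff⁻¹ • s₁
    let F : Polynomial k := F₀ - F₀.coeff b • G
    have hG : G ∈ V := V.smul_mem _ hG₀
    have hF : F ∈ V := V.sub_mem (V.smul_mem _ hs₁) (V.smul_mem _ hG)
    have hGb : G.coeff b = 1 := by simp [G, b, Polynomial.leadingCoeff_ne_zero.mpr hG₀0]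
    have hGa : G.coeff a = 0 := by simp [G, a, hG₀a]
    have hFa : F.coeff a = 1 := by
      have : F₀.coeff a = 1 := by simp [F₀, a, Polynomial.leadingCoeff_ne_zero.mpr hs₁0]
      simp [F, this, hGa]
    have hFb : F.coeff b = 0 := by simp [F, hGb]
    have hspan : V = Submodule.span k {F, G} := by
      have hli : LinearIndependent k ![F, G] := LinearIndependent.pair_iff.mpr fun s t hst => by
        have h1 := congrArg (fun f => Polynomial.coeff f a) hst
        have h2 := congrArg (fun f => Polynomial.coeff f b) hst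
        simp [hFa, hGa, hFb, hGb] at h1 h2
        exact ⟨h1, h2⟩
      have hcard := finrank_span_eq_card hli
      rw [Matrix.range_cons_cons_empty, Fintype.card_fin] at hcard
      exact (Submodule.eq_of_le_of_finrank_eq (Submodule.span_le.mpr (by rintro _ (rfl | rfl) <;> assumption)) (hcard.trans hfr.symm)).symm
    have hF0 : F ≠ 0 := fun h => by rw [h, Polynomial.coeff_zero] at hFa; exact zero_ne_one hFa
    have hnv' : ∀ i, G.eval (P i) ≠ 0 ∨ F.eval (P i) ≠ 0 := fun i => by
      obtain ⟨s, hs, hs0⟩ := hnv (P i)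
      by_contra! h
      obtain ⟨u, v, rfl⟩ := Submodule.mem_span_pair.mp (hspan ▸ hs)
      exact hs0 (by simp [h.1, h.2])
    have hdvd : ∀ i, (X - C (P i)) ^ e i ∣ C (G.eval (P i)) * F - C (F.eval (P i)) * G := fun i => by
      obtain ⟨⟨s, hs, hs0, hse⟩, -⟩ := hram i
      obtain ⟨u, v, rfl⟩ := Submodule.mem_span_pair.mp (hspan ▸ hs)
      have hd := (Polynomial.le_rootMultiplicity_iff hs0).mp hse
      rw [Polynomial.smul_eq_C_mul, Polynomial.smul_eq_C_mul] at hd hs0
      have hev : u * F.eval (P i) + v * G.eval (P i) = 0 := by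
        have := Polynomial.dvd_iff_isRoot.mp ((dvd_pow_self _ (by have := (he.1 i).1; omega)).trans hd)
        simpa [Polynomial.IsRoot] using this
      have hCev := congrArg C hev
      simp only [map_add, map_mul, map_zero] at hCev
      by_cases hu : u = 0
      · have hv : v ≠ 0 := fun h => hs0 (by simp [hu, h])
        refine ((Polynomial.isUnit_C.mpr (Ne.isUnit hv)).dvd_mul_left).mp ?_
        rw [show C v * (C (G.eval (P i)) * F - C (F.eval (P i)) * G) = -(C (F.eval (P i)) * (C u * F + C v * G)) by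
          linear_combination F * hCev]
        exact dvd_neg.mpr (dvd_mul_of_dvd_right hd _)
      · refine ((Polynomial.isUnit_C.mpr (Ne.isUnit hu)).dvd_mul_left).mp ?_
        rw [show C u * (C (G.eval (P i)) * F - C (F.eval (P i)) * G) = C (G.eval (P i)) * (C u * F + C v * G) by
          linear_combination -G * hCev]
        exact dvd_mul_of_dvd_right hd _
    have hW0 : wronskian F G ≠ 0 := by
      obtain ⟨s, hs, t, ht, hst⟩ := hsep
      obtain ⟨u, v, rfl⟩ := Submodule.mem_span_pair.mp (hspan ▸ hs)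
      obtain ⟨u', v', rfl⟩ := Submodule.mem_span_pair.mp (hspan ▸ ht)
      intro h
      apply hst
      rw [Polynomial.smul_eq_C_mul, Polynomial.smul_eq_C_mul, Polynomial.smul_eq_C_mul, Polynomial.smul_eq_C_mul,
        Groth.Agent.PencilLim.wronskian_comb _ _ _ _ _ _ derivative_C derivative_C derivative_C derivative_C, h, mul_zero]
    have hmonWn : (∏ i, (X - C (P i)) ^ (e i - 1)).Monic :=
      Polynomial.monic_prod_of_monic _ _ fun i _ => (Polynomial.monic_X_sub_C _).pow _
    obtain ⟨r, hr⟩ : ∏ i, (X - C (P i)) ^ (e i - 1) ∣ wronskian F G := by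
      refine Finset.prod_dvd_of_coprime (fun i _ j _ hij => ((Polynomial.pairwise_coprime_X_sub_C hPinj) hij).pow) fun i _ => ?_
      rcases hnv' i with h | h
      · refine ((Polynomial.isUnit_C.mpr (Ne.isUnit h)).dvd_mul_left).mp ?_
        have := Groth.Agent.PencilLim.pow_dvd_wronskian_pred (hdvd i) (C 0 * F + C 1 * G)
        rw [sub_eq_add_neg (C (G.eval (P i)) * F), ← neg_mul, ← map_neg,
          Groth.Agent.PencilLim.wronskian_comb _ _ _ _ _ _ derivative_C derivative_C derivative_C derivative_C] at this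
        simpa using this
      · refine ((Polynomial.isUnit_C.mpr (Ne.isUnit h)).dvd_mul_left).mp ?_
        have := Groth.Agent.PencilLim.pow_dvd_wronskian_pred (hdvd i) (C 1 * F + C 0 * G)
        rw [sub_eq_add_neg (C (G.eval (P i)) * F), ← neg_mul, ← map_neg,
          Groth.Agent.PencilLim.wronskian_comb _ _ _ _ _ _ derivative_C derivative_C derivative_C derivative_C] at this
        simpa using this
    have hr0 : r ≠ 0 := fun h => hW0 (by rw [hr, h, mul_zero])
    have hrC : r = C (r.coeff 0) := by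
      refine Polynomial.eq_C_of_natDegree_eq_zero ?_
      have h := Groth.Agent.PencilLim.natDegree_wronskian_le_of_le (hdeg F hF) (hdeg G hG)
      rw [hr, Polynomial.natDegree_mul hmonWn.ne_zero hr0, natDegree_prod (P := P) p he] at h
      omega
    have hcr : r.coeff 0 ≠ 0 := fun h => hr0 (by rw [hrC, h, map_zero])
    have huv : ∀ i, ∃ u v : k, u * G.eval (P i) + v * F.eval (P i) = 1 := fun i => by
      rcases hnv' i with h | h
      · exact ⟨(G.eval (P i))⁻¹, 0, by simp [h]⟩
      · exact ⟨0, (F.eval (P i))⁻¹, by simp [h]⟩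
    choose uu vv huv using huv
    let x : Var n d → k := fun v => match v with
      | .pt i => P i
      | .co l j => if l = 0 then F.coeff j else G.coeff j
      | .uv i l => if l = 0 then uu i else vv i
      | .sc l => if l = 0 then r.coeff 0 else (r.coeff 0)⁻¹
    have hxF : (ofVec fun j => x (.co 0 j)) = F := by
      simp only [x, if_true]; exact ofVec_coeff (hdeg F hF)
    have hxG : (ofVec fun j => x (.co 1 j)) = G := by
      simp only [x, one_ne_zero, if_false]; exact ofVec_coeff (hdeg G hG)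
    refine ⟨a, b, x, ⟨?_, ?_, ?_, ?_, ?_⟩, fun i => rfl, by rw [hxF, hxG]; exact hspan, by rw [hxF]; exact hF0⟩
    · exact ⟨by simpa [x] using hFa, by simpa [x] using hFb, by simpa [x] using hGa, by simpa [x] using hGb⟩
    · simp [x, hcr]
    · intro i
      rw [hxF, hxG]
      simpa [x] using huv i
    · rw [hxF, hxG, hr]
      show _ = C (if (0 : Fin 2) = 0 then r.coeff 0 else (r.coeff 0)⁻¹) * ∏ i, (X - C (P i)) ^ (e i - 1)
      rw [if_pos rfl, ← hrC, mul_comm]
    · intro i
      rw [hxF, hxG]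
      exact hdvd i
  refine ⟨?_, ?_⟩
  · let pair : (Fin 2 → Fin (d + 1) → k) → Submodule k (Polynomial k) := fun y => Submodule.span k {ofVec (y 0), ofVec (y 1)}
    refine (Set.Finite.image pair (Set.finite_iUnion fun ab : Fin (d + 1) × Fin (d + 1) =>
      (hΦ ab.1 ab.2 P (hP.2 ab.1 (Finset.mem_univ _) ab.2 (Finset.mem_univ _))).1)).subset fun V hV => ?_
    obtain ⟨a, b, x, hx, hxP, hVx, -⟩ := key V hV
    exact ⟨fun l j => x (.co l j), Set.mem_iUnion.mpr ⟨(a, b), x, hx, hxP, fun _ _ => rfl⟩, hVx.symm⟩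
  · intro V hV i j hij s hs hroot
    obtain ⟨a, b, x, hx, hxP, hVx, -⟩ := key V hV
    set F := ofVec fun j => x (.co 0 j)
    set G := ofVec fun j => x (.co 1 j)
    have hne := (hΦ a b P (hP.2 a (Finset.mem_univ _) b (Finset.mem_univ _))).2 x hx hxP i j hij
    rw [hVx] at hs
    obtain ⟨u, v, rfl⟩ := Submodule.mem_span_pair.mp hs
    simp only [Polynomial.IsRoot, Polynomial.eval_add, Polynomial.eval_smul, smul_eq_mul] at hroot
    simp only [Polynomial.eval_sub, Polynomial.eval_mul, Polynomial.eval_C] at hne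
    have hu : u * (G.eval (P i) * F.eval (P j) - F.eval (P i) * G.eval (P j)) = 0 := by
      linear_combination G.eval (P i) * hroot.2 - G.eval (P j) * hroot.1
    have hv : v * (G.eval (P i) * F.eval (P j) - F.eval (P i) * G.eval (P j)) = 0 := by
      linear_combination F.eval (P j) * hroot.1 - F.eval (P i) * hroot.2
    rw [(mul_eq_zero.mp hu).resolve_right hne, (mul_eq_zero.mp hv).resolve_right hne, zero_smul, zero_smul, add_zero]

end Groth.Agent.RamPencil
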