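import Groth.Agent.RamPencil.Common
import Groth.Agent.RamPencil.Spread

/-!
# Finiteness of pencils with given ramification when `d < p`
-/

set_option autoImplicit false

universe u

namespace Groth.Agent.RamPencil

open W4c1limliniiii Polynomial

theorem charP_valuationSubring_residue {k L : Type u} [Field k] [Field L] [Algebra k L] (p : ℕ) [CharP k p]
    (O : ValuationSubring L) (hO : Set.range (algebraMap k L) ⊆ O) : CharP (IsLocalRing.ResidueField O) p :=
  charP_of_injective_ringHom ((IsLocalRing.residue O).comp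
    ((algebraMap k L).codRestrict O.toSubring fun a => hO ⟨a, rfl⟩)).injective p

variable {k L : Type u} [Field k] [Field L] [Algebra k L] (p : ℕ) [CharP k p] {d n : ℕ} {e : Fin n → ℕ}
  {P : Fin n → k}

theorem plucker_div_mem (hp : p = 0 ∨ d < p) (he : Admissible p d e) (f g : Fin (d + 1) → L) {a b : Fin (d + 1)}
    (hab : f a * g b - f b * g a ≠ 0) {c : L} (hc : c ≠ 0)
    (hW : wronskian (ofVec f) (ofVec g) = C c * ∏ i, (X - C (algebraMap k L (P i))) ^ (e i - 1))
    (O : ValuationSubring L) (hO : Set.range (algebraMap k L) ⊆ O) (i j : Fin (d + 1)) :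
    (f i * g j - f j * g i) / c ∈ O := by
  classical
  let pl : Fin (d + 1) × Fin (d + 1) → L := fun ij => f ij.1 * g ij.2 - f ij.2 * g ij.1
  obtain ⟨⟨a', b'⟩, -, hmax⟩ := Finset.exists_max_image Finset.univ (fun ij => O.valuation (pl ij)) Finset.univ_nonempty
  set π := pl (a', b') with hπ
  have hπ0 : π ≠ 0 := fun h => by
    have h1 := hmax (a, b) (Finset.mem_univ _)
    simp only [← hπ, h, map_zero, le_zero_iff, map_eq_zero] at h1
    exact hab h1
  have hdiv : ∀ ij, pl ij / π ∈ O := fun ij => by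
    rw [← O.valuation_le_one_iff, map_div₀, div_le_one₀ (zero_lt_iff.mpr ((_root_.map_ne_zero _).mpr hπ0))]
    exact hmax ij (Finset.mem_univ _)
  let F₀ : Fin (d + 1) → O := fun l => ⟨_, hdiv (l, b')⟩
  let G₀ : Fin (d + 1) → O := fun l => ⟨_, hdiv (a', l)⟩
  have hFL : (ofVec F₀).map O.subtype = C (g b' / π) * ofVec f + C (-(f b' / π)) * ofVec g := by
    rw [map_ofVec]
    simp only [ofVec, Finset.mul_sum, C_mul_monomial, ← Finset.sum_add_distrib, ← map_add]
    refine Finset.sum_congr rfl fun l _ => congrArg _ ?_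
    show pl (l, b') / π = _
    simp only [pl]; ring
  have hGL : (ofVec G₀).map O.subtype = C (-(g a' / π)) * ofVec f + C (f a' / π) * ofVec g := by
    rw [map_ofVec]
    simp only [ofVec, Finset.mul_sum, C_mul_monomial, ← Finset.sum_add_distrib, ← map_add]
    refine Finset.sum_congr rfl fun l _ => congrArg _ ?_
    show pl (a', l) / π = _
    simp only [pl]; ring
  let Wn : O[X] := ∏ i, (X - C (⟨algebraMap k L (P i), hO ⟨_, rfl⟩⟩ : O)) ^ (e i - 1)
  have hWn : Wn.Monic := monic_prod_of_monic _ _ fun i _ => (monic_X_sub_C _).pow _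
  have hWnL : Wn.map O.subtype = ∏ i, (X - C (algebraMap k L (P i))) ^ (e i - 1) := by
    simp only [Wn, Polynomial.map_prod, Polynomial.map_pow, Polynomial.map_sub, map_X, map_C]; rfl
  have hdet : g b' / π * (f a' / π) - -(f b' / π) * -(g a' / π) = π⁻¹ := by
    field_simp
    simp only [hπ, pl]; ring
  have hmap : (wronskian (ofVec F₀) (ofVec G₀)).map O.subtype = C (c / π) * Wn.map O.subtype := by
    rw [Groth.Agent.PencilLim.map_wronskian, hFL, hGL,
      Groth.Agent.PencilLim.wronskian_comb _ _ _ _ _ _ derivative_C derivative_C derivative_C derivative_C, hW,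
      ← map_mul, ← map_mul, ← map_sub, hdet, ← mul_assoc, ← map_mul, hWnL]
    congr 2
    rw [div_eq_inv_mul]
  set c₀ : O := (wronskian (ofVec F₀) (ofVec G₀)).coeff Wn.natDegree with hc₀
  have hc₀L : (c₀ : L) = c / π := by
    have h := congrArg (fun q => q.coeff Wn.natDegree) hmap
    simp only [coeff_map, coeff_C_mul, hWn.coeff_natDegree, map_one, mul_one] at h
    exact h
  have hW₀ : wronskian (ofVec F₀) (ofVec G₀) = C c₀ * Wn := Polynomial.map_injective O.subtype Subtype.val_injective (by
    rw [hmap, Polynomial.map_mul, map_C]; exact congrArg (fun t => C t * Wn.map O.subtype) hc₀L.symm)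
  have hunit : IsUnit c₀ := by
    by_contra hnu
    haveI := charP_valuationSubring_residue p O hO
    let r := IsLocalRing.residue O
    have hr : r c₀ = 0 := IsLocalRing.residue_eq_zero_iff c₀ |>.mpr hnu
    have hW0 : wronskian ((ofVec F₀).map r) ((ofVec G₀).map r) = 0 := by
      rw [← Groth.Agent.PencilLim.map_wronskian, hW₀, Polynomial.map_mul, map_C, hr, map_zero, zero_mul]
    obtain ⟨u, v, huv, hrel⟩ := dependent_of_wronskian_eq_zero hp (natDegree_map_le.trans (natDegree_ofVec_le F₀))
      (natDegree_map_le.trans (natDegree_ofVec_le G₀)) hW0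
    have h1 := congrArg (fun q => Polynomial.coeff q a') hrel
    have h2 := congrArg (fun q => Polynomial.coeff q b') hrel
    have e1 : F₀ a' = 1 := Subtype.ext (div_self hπ0)
    have e2 : G₀ b' = 1 := Subtype.ext (div_self hπ0)
    have e3 : F₀ b' = 0 := Subtype.ext (by simp [F₀, pl])
    have e4 : G₀ a' = 0 := Subtype.ext (by simp [G₀, pl])
    simp [coeff_map, coeff_ofVec, e1, e2, e3, e4] at h1 h2
    exact huv.elim (fun h => h h1) (fun h => h h2)
  have hval := (O.valuation_eq_one_iff c₀).mp hunit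
  rw [hc₀L, map_div₀] at hval
  have hceq : O.valuation c = O.valuation π := by
    rwa [div_eq_one_iff_eq ((_root_.map_ne_zero _).mpr hπ0)] at hval
  rw [← O.valuation_le_one_iff, map_div₀, hceq, div_le_one₀ (zero_lt_iff.mpr ((_root_.map_ne_zero _).mpr hπ0))]
  exact hmax (i, j) (Finset.mem_univ _)

theorem mem_range_of_forall_valuationSubring [IsAlgClosed k] {x : L}
    (h : ∀ O : ValuationSubring L, Set.range (algebraMap k L) ⊆ O → x ∈ O) :
    x ∈ Set.range (algebraMap k L) := by
  have hx : x ∈ (⨅ O : {O : ValuationSubring L // Set.range (algebraMap k L) ⊆ O.toSubring}, O.1.toSubring) :=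
    Subring.mem_iInf.mpr fun O => h O.1 O.2
  rw [iInf_valuationSubring_superset] at hx
  obtain ⟨q, hqm, hq⟩ := hx
  have hint : IsIntegral k x := by
    have hclo : Subring.closure (Set.range (algebraMap k L)) = (algebraMap k L).range := by
      rw [← RingHom.coe_range, Subring.closure_eq]
    have hlift : ∀ z : Subring.closure (Set.range (algebraMap k L)), ∃ r : k, algebraMap k L r = z := fun z =>
      RingHom.mem_range.mp (hclo.le z.2)
    obtain ⟨q', hq', -, hq'm⟩ := Polynomial.lifts_and_degree_eq_and_monic (f := algebraMap k L)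
      (p := q.map (Subring.closure (Set.range (algebraMap k L))).subtype)
      ((Polynomial.lifts_iff_coeff_lifts _).mpr fun m => by
        rw [coeff_map]; exact hlift (q.coeff m)) (hqm.map _)
    refine ⟨q', hq'm, ?_⟩
    rw [← eval_map, hq', eval_map]
    exact hq
  exact ⟨_, (minpoly.mem_range_of_degree_eq_one k x (IsAlgClosed.degree_eq_one_of_irreducible k (minpoly.irreducible hint))).choose_spec⟩

theorem finite_ramMaps_of_lt [IsAlgClosed k] (he : Admissible p d e) (hP : Function.Injective P)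
    (hp : p = 0 ∨ d < p) : (ramMaps d P e).Finite := by
  classical
  let σ := (Fin 2 × Fin (d + 1)) ⊕ Fin 2
  let I : Fin (d + 1) → Fin (d + 1) → Ideal (MvPolynomial σ k) := fun a b =>
    Ideal.span ({MvPolynomial.X (Sum.inl (0, a)) - 1, MvPolynomial.X (Sum.inl (0, b)), MvPolynomial.X (Sum.inl (1, a)),
        MvPolynomial.X (Sum.inl (1, b)) - 1, MvPolynomial.X (Sum.inr 0) * MvPolynomial.X (Sum.inr 1) - 1} ∪
      Set.range fun m : ℕ => (wronskian (ofVec fun j => (MvPolynomial.X (Sum.inl (0, j)) : MvPolynomial σ k))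
          (ofVec fun j => MvPolynomial.X (Sum.inl (1, j))) -
        C (MvPolynomial.X (Sum.inr 0)) * ∏ i, (X - C (MvPolynomial.C (P i))) ^ (e i - 1)).coeff m)
  have hI : ∀ a b {N : Type u} [CommRing N] (ψ : MvPolynomial σ k →+* N), I a b ≤ RingHom.ker ψ ↔
      (ψ (MvPolynomial.X (Sum.inl (0, a))) = 1 ∧ ψ (MvPolynomial.X (Sum.inl (0, b))) = 0 ∧
        ψ (MvPolynomial.X (Sum.inl (1, a))) = 0 ∧ ψ (MvPolynomial.X (Sum.inl (1, b))) = 1 ∧
        ψ (MvPolynomial.X (Sum.inr 0)) * ψ (MvPolynomial.X (Sum.inr 1)) = 1) ∧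
      wronskian (ofVec fun j => ψ (MvPolynomial.X (Sum.inl (0, j)))) (ofVec fun j => ψ (MvPolynomial.X (Sum.inl (1, j)))) =
        C (ψ (MvPolynomial.X (Sum.inr 0))) * ∏ i, (X - C (ψ (MvPolynomial.C (P i)))) ^ (e i - 1) := by
    intro a b N _ ψ
    simp only [I, Ideal.span_le, Set.union_subset_iff, Set.insert_subset_iff, Set.singleton_subset_iff,
      Set.range_subset_iff, SetLike.mem_coe, RingHom.mem_ker, map_sub, map_one, map_mul, sub_eq_zero]
    refine and_congr Iff.rfl ?_
    rw [← sub_eq_zero, Polynomial.ext_iff]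
    refine forall_congr' fun m => ?_
    rw [← Polynomial.coeff_map, Polynomial.map_sub, Groth.Agent.PencilLim.map_wronskian, map_ofVec, map_ofVec,
      Polynomial.map_mul, Polynomial.map_C, Polynomial.map_prod]
    simp
  have hconst : ∀ a b, ∀ q ∈ (I a b).minimalPrimes, ∀ v : Fin 2 × Fin (d + 1), ∃ r : k,
      MvPolynomial.X (Sum.inl v) - MvPolynomial.C r ∈ q := by
    intro a b q hq v
    haveI : q.IsPrime := hq.1.1
    let L := FractionRing (MvPolynomial σ k ⧸ q)
    let ψ : MvPolynomial σ k →ₐ[k] L :=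
      (IsScalarTower.toAlgHom k (MvPolynomial σ k ⧸ q) L).comp (Ideal.Quotient.mkₐ k q)
    have hker : RingHom.ker ψ.toRingHom = q := by
      ext r
      rw [RingHom.mem_ker]
      show algebraMap (MvPolynomial σ k ⧸ q) L (Ideal.Quotient.mk q r) = 0 ↔ _
      rw [map_eq_zero_iff _ (IsFractionRing.injective _ _), Ideal.Quotient.eq_zero_iff_mem]
    obtain ⟨⟨h1, h2, h3, h4, h5⟩, hW⟩ := (hI a b ψ.toRingHom).mp (hker.symm ▸ hq.1.2)
    let f : Fin (d + 1) → L := fun j => ψ (MvPolynomial.X (Sum.inl (0, j)))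
    let g : Fin (d + 1) → L := fun j => ψ (MvPolynomial.X (Sum.inl (1, j)))
    set c : L := ψ (MvPolynomial.X (Sum.inr 0)) with hcdef
    have hc : c ≠ 0 := left_ne_zero_of_mul_eq_one h5
    have hWL : wronskian (ofVec f) (ofVec g) = C c * ∏ i, (X - C (algebraMap k L (P i))) ^ (e i - 1) := by
      refine hW.trans ?_
      congr 1
    have hfa : f a = 1 := h1
    have hfb : f b = 0 := h2
    have hga : g a = 0 := h3
    have hgb : g b = 1 := h4
    have hab : f a * g b - f b * g a ≠ 0 := by rw [hfa, hfb, hga, hgb]; simp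
    have hratio : ∀ i j, ∃ r : k, algebraMap k L r = (f i * g j - f j * g i) / c := fun i j =>
      mem_range_of_forall_valuationSubring fun O hO => plucker_div_mem p hp he f g hab hc hWL O hO i j
    obtain ⟨r₀, hr₀⟩ := hratio a b
    have hr₀' : algebraMap k L r₀ = c⁻¹ := by rw [hr₀, hfa, hfb, hga, hgb]; simp
    obtain ⟨l, j⟩ := v
    obtain ⟨r, hr⟩ : ∃ r : k, algebraMap k L r = ψ (MvPolynomial.X (Sum.inl (l, j))) := by
      fin_cases l
      · obtain ⟨r₁, hr₁⟩ := hratio j b
        refine ⟨r₁ / r₀, ?_⟩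
        show _ = f j
        rw [map_div₀, hr₁, hr₀', hfb, hgb]
        rw [div_inv_eq_mul, div_mul_cancel₀ _ hc]
        ring
      · obtain ⟨r₁, hr₁⟩ := hratio a j
        refine ⟨r₁ / r₀, ?_⟩
        show _ = g j
        rw [map_div₀, hr₁, hr₀', hfa, hga]
        rw [div_inv_eq_mul, div_mul_cancel₀ _ hc]
        ring
    refine ⟨r, hker.le (RingHom.mem_ker.mpr ?_)⟩
    show ψ (_ - _) = 0
    rw [map_sub, ← hr, show ψ (MvPolynomial.C r) = algebraMap k L r from ψ.commutes r, sub_self]
  choose r hr using hconst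
  let pair : (Fin 2 → Fin (d + 1) → k) → Submodule k k[X] := fun y => Submodule.span k {ofVec (y 0), ofVec (y 1)}
  have hfin : ∀ a b, ((I a b).minimalPrimes).Finite := fun a b => Ideal.finite_minimalPrimes_of_isNoetherianRing _ _
  refine (Set.Finite.image pair (Set.finite_iUnion fun ab : Fin (d + 1) × Fin (d + 1) =>
    Set.Finite.dependent_image (hfin ab.1 ab.2) fun q hq => fun l j => r ab.1 ab.2 q hq (l, j))).subset fun V hV => ?_
  -- a chart containing `V`
  obtain ⟨F₁, G₁, hspan, hF₁, hG₁, c₁, hc₁, hW₁⟩ := exists_basis_of_ramMaps he hP hV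
  have hW₁0 : wronskian F₁ G₁ ≠ 0 := by
    rw [hW₁]
    exact mul_ne_zero (by simpa using hc₁) (monic_prod_of_monic _ _ fun i _ => (monic_X_sub_C _).pow _).ne_zero
  obtain ⟨a, b, hab⟩ : ∃ a b : Fin (d + 1), F₁.coeff a * G₁.coeff b - F₁.coeff b * G₁.coeff a ≠ 0 := by
    by_contra! hall
    apply hW₁0
    have hF0 : F₁ ≠ 0 := fun h => hW₁0 (by rw [h, wronskian_zero_left])
    have hG : C F₁.leadingCoeff * G₁ = C (G₁.coeff F₁.natDegree) * F₁ := by
      ext m
      rw [coeff_C_mul, coeff_C_mul]
      by_cases hm : m < d + 1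
      · have h := hall ⟨F₁.natDegree, by omega⟩ ⟨m, hm⟩
        simp only at h
        rw [leadingCoeff]
        linear_combination h
      · rw [coeff_eq_zero_of_natDegree_lt (show G₁.natDegree < m by omega),
          coeff_eq_zero_of_natDegree_lt (show F₁.natDegree < m by omega)]
        ring
    have h2 : C F₁.leadingCoeff * wronskian F₁ G₁ = 0 := by
      have hd := congrArg derivative hG
      simp only [derivative_mul, derivative_C, zero_mul, zero_add] at hd
      simp only [wronskian]
      linear_combination F₁ * hd - derivative F₁ * hG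
    exact (mul_eq_zero.mp h2).resolve_left (by simpa using leadingCoeff_ne_zero.mpr hF0)
  set π := F₁.coeff a * G₁.coeff b - F₁.coeff b * G₁.coeff a with hπ
  let F : k[X] := C (G₁.coeff b / π) * F₁ + C (-(F₁.coeff b / π)) * G₁
  let G : k[X] := C (-(G₁.coeff a / π)) * F₁ + C (F₁.coeff a / π) * G₁
  have hdet : G₁.coeff b / π * (F₁.coeff a / π) - -(F₁.coeff b / π) * -(G₁.coeff a / π) = π⁻¹ := by
    field_simp
    rw [hπ]; ring
  have hW : wronskian F G = C (c₁ / π) * ∏ i, (X - C (P i)) ^ (e i - 1) := by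
    simp only [F, G]
    rw [Groth.Agent.PencilLim.wronskian_comb _ _ _ _ _ _ derivative_C derivative_C derivative_C derivative_C,
      ← map_mul, ← map_mul, ← map_sub, hdet, hW₁, ← mul_assoc, ← map_mul, div_eq_inv_mul]
  have hFd : F.natDegree ≤ d := (natDegree_add_le _ _).trans
    (max_le ((natDegree_C_mul_le _ _).trans hF₁) ((natDegree_C_mul_le _ _).trans hG₁))
  have hGd : G.natDegree ≤ d := (natDegree_add_le _ _).trans
    (max_le ((natDegree_C_mul_le _ _).trans hF₁) ((natDegree_C_mul_le _ _).trans hG₁))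
  let x : σ → k := Sum.elim (fun lj => if lj.1 = 0 then F.coeff lj.2 else G.coeff lj.2)
    fun l => if l = 0 then c₁ / π else π / c₁
  have hx : I a b ≤ RingHom.ker (MvPolynomial.eval x) := by
    rw [hI]
    refine ⟨⟨?_, ?_, ?_, ?_, ?_⟩, ?_⟩
    all_goals simp only [MvPolynomial.eval_X, MvPolynomial.eval_C, x, Sum.elim_inl, Sum.elim_inr, if_true, one_ne_zero, if_false]
    · simp only [F, coeff_add, coeff_C_mul]; field_simp; rw [hπ]; ring
    · simp only [F, coeff_add, coeff_C_mul]; ring
    · simp only [G, coeff_add, coeff_C_mul]; ring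
    · simp only [G, coeff_add, coeff_C_mul]; field_simp; rw [hπ]; ring
    · field_simp
    · rw [ofVec_coeff hFd, ofVec_coeff hGd, hW]
  haveI : (RingHom.ker (MvPolynomial.eval x)).IsPrime := RingHom.ker_isPrime _
  obtain ⟨q, hq, hqx⟩ := Ideal.exists_minimalPrimes_le hx
  refine ⟨fun l j => r a b q hq (l, j), Set.mem_iUnion.mpr ⟨(a, b), q, hq, rfl⟩, ?_⟩
  have hy : ∀ lj, r a b q hq lj = x (Sum.inl lj) := fun lj => by
    have h := hqx (hr a b q hq lj)
    rw [RingHom.mem_ker, map_sub, MvPolynomial.eval_X, MvPolynomial.eval_C, sub_eq_zero] at h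
    exact h.symm
  simp only [pair, hy, x, Sum.elim_inl, if_true, one_ne_zero, if_false]
  rw [ofVec_coeff hFd, ofVec_coeff hGd, hspan]
  refine le_antisymm (Submodule.span_le.mpr ?_) (Submodule.span_le.mpr ?_)
  · intro f hf
    simp only [Set.mem_insert_iff, Set.mem_singleton_iff] at hf
    rcases hf with hf | hf <;> rw [hf] <;> clear hf
    · exact Submodule.mem_span_pair.mpr ⟨G₁.coeff b / π, -(F₁.coeff b / π), by simp only [F, smul_eq_C_mul]⟩
    · exact Submodule.mem_span_pair.mpr ⟨-(G₁.coeff a / π), F₁.coeff a / π, by simp only [G, smul_eq_C_mul]⟩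
  · intro f hf
    simp only [Set.mem_insert_iff, Set.mem_singleton_iff] at hf
    rcases hf with hf | hf <;> rw [hf] <;> clear hf
    · refine Submodule.mem_span_pair.mpr ⟨F₁.coeff a, F₁.coeff b, ?_⟩
      simp only [F, G, smul_eq_C_mul]
      have h1 : F₁.coeff a * (G₁.coeff b / π) + F₁.coeff b * -(G₁.coeff a / π) = 1 := by field_simp; rw [hπ]; ring
      have h2 : F₁.coeff a * -(F₁.coeff b / π) + F₁.coeff b * (F₁.coeff a / π) = 0 := by ring
      have h1' := congrArg C h1
      have h2' := congrArg C h2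
      simp only [map_add, map_mul, map_one, map_zero] at h1' h2'
      linear_combination F₁ * h1' + G₁ * h2'
    · refine Submodule.mem_span_pair.mpr ⟨G₁.coeff a, G₁.coeff b, ?_⟩
      simp only [F, G, smul_eq_C_mul]
      have h1 : G₁.coeff a * (G₁.coeff b / π) + G₁.coeff b * -(G₁.coeff a / π) = 0 := by ring
      have h2 : G₁.coeff a * -(F₁.coeff b / π) + G₁.coeff b * (F₁.coeff a / π) = 1 := by field_simp; rw [hπ]; ring
      have h1' := congrArg C h1
      have h2' := congrArg C h2
      simp only [map_add, map_mul, map_one, map_zero] at h1' h2'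
      linear_combination F₁ * h1' + G₁ * h2'

end Groth.Agent.RamPencil
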