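import Groth.Agent.RamPencil.Common

/-!
# Pencils ramified at three points
-/

set_option autoImplicit false

universe u

namespace Groth.Agent.RamPencil

open W4c1limliniiii Polynomial

variable {k : Type u} [Field k] {p d : ℕ} {e : Fin 3 → ℕ} {P : Fin 3 → k}

variable (d P e) in
/-- Pairs `(F, G)` with `F`, `G`, `F - G` vanishing to the prescribed orders. -/
noncomputable def threeSpace : Submodule k (k[X] × k[X]) where
  carrier := {v | v.1.natDegree ≤ d ∧ v.2.natDegree ≤ d ∧ (X - C (P 0)) ^ e 0 ∣ v.1 ∧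
    (X - C (P 1)) ^ e 1 ∣ v.2 ∧ (X - C (P 2)) ^ e 2 ∣ v.1 - v.2}
  zero_mem' := by simp
  add_mem' := by
    rintro v w ⟨a1, a2, a3, a4, a5⟩ ⟨b1, b2, b3, b4, b5⟩
    refine ⟨(natDegree_add_le _ _).trans (max_le a1 b1), (natDegree_add_le _ _).trans (max_le a2 b2),
      dvd_add a3 b3, dvd_add a4 b4, ?_⟩
    rw [Prod.fst_add, Prod.snd_add, add_sub_add_comm]
    exact dvd_add a5 b5
  smul_mem' := by
    rintro c v ⟨a1, a2, a3, a4, a5⟩
    refine ⟨(natDegree_smul_le _ _).trans a1, (natDegree_smul_le _ _).trans a2, ?_, ?_, ?_⟩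
    · rw [Prod.smul_fst, smul_eq_C_mul]; exact dvd_mul_of_dvd_right a3 _
    · rw [Prod.smul_snd, smul_eq_C_mul]; exact dvd_mul_of_dvd_right a4 _
    · rw [Prod.smul_fst, Prod.smul_snd, ← smul_sub, smul_eq_C_mul]; exact dvd_mul_of_dvd_right a5 _

variable (he : Admissible p d e) (hP : Function.Injective P)

include he in
theorem add_le_of_ne (i j : Fin 3) (hij : i ≠ j) : d + 1 ≤ e i + e j := by
  have h := he.2
  rw [Fin.sum_univ_three] at h
  have h0 := (he.1 0).2.1
  have h1 := (he.1 1).2.1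
  have h2 := (he.1 2).2.1
  fin_cases i <;> fin_cases j <;> first | exact absurd rfl hij | (simp; omega)

include he hP in
theorem eq_zero_of_two {f : k[X]} (hf : f.natDegree ≤ d) (i j : Fin 3) (hij : i ≠ j)
    (hi : (X - C (P i)) ^ e i ∣ f) (hj : (X - C (P j)) ^ e j ∣ f) : f = 0 := by
  by_contra hne
  have h := natDegree_le_of_dvd (((pairwise_coprime_X_sub_C hP) hij).pow.mul_dvd hi hj) hne
  rw [natDegree_mul (pow_ne_zero _ (X_sub_C_ne_zero _)) (pow_ne_zero _ (X_sub_C_ne_zero _)), natDegree_pow,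
    natDegree_pow, natDegree_X_sub_C, natDegree_X_sub_C, mul_one, mul_one] at h
  have := add_le_of_ne he i j hij
  omega

include he in
theorem threeSpace_ne_bot : threeSpace d e P ≠ ⊥ := by
  have hinj : ∀ (a : k) (m : ℕ) (f : k[X]),
      (∀ j : Fin m, (f %ₘ (X - C a) ^ m).coeff j = 0) → (X - C a) ^ m ∣ f := fun a m f h => by
    rw [← modByMonic_eq_zero_iff_dvd ((monic_X_sub_C a).pow m)]
    ext j
    rw [coeff_zero]
    by_cases hj : j < m
    · exact h ⟨j, hj⟩
    · rcases Nat.eq_zero_or_pos m with rfl | hm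
      · simp [Polynomial.modByMonic_one]
      · refine coeff_eq_zero_of_natDegree_lt ?_
        have := natDegree_modByMonic_lt f ((monic_X_sub_C a).pow m) (fun h => by
          have h2 := congrArg natDegree h
          rw [natDegree_pow, natDegree_X_sub_C, natDegree_one] at h2
          omega)
        rw [natDegree_pow, natDegree_X_sub_C] at this
        omega
  let rem : (a : k) → (m : ℕ) → k[X] →ₗ[k] (Fin m → k) := fun a m =>
    (LinearMap.pi fun j : Fin m => lcoeff k j).comp (modByMonicHom ((X - C a) ^ m))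
  let Φ : (degreeLT k (d + 1) × degreeLT k (d + 1)) →ₗ[k] (Fin (e 0) → k) × (Fin (e 1) → k) × (Fin (e 2) → k) :=
    ((rem (P 0) (e 0)).comp ((degreeLT k (d + 1)).subtype.comp (LinearMap.fst k _ _))).prod
      (((rem (P 1) (e 1)).comp ((degreeLT k (d + 1)).subtype.comp (LinearMap.snd k _ _))).prod
        ((rem (P 2) (e 2)).comp ((degreeLT k (d + 1)).subtype.comp (LinearMap.fst k _ _) -
          (degreeLT k (d + 1)).subtype.comp (LinearMap.snd k _ _))))
  have hker : LinearMap.ker Φ ≠ ⊥ := fun h => by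
    haveI : Module.Finite k (degreeLT k (d + 1)) := Module.Finite.equiv (degreeLTEquiv k (d + 1)).symm
    have h1 := LinearMap.finrank_le_finrank_of_injective (LinearMap.ker_eq_bot.mp h)
    simp only [Module.finrank_prod, (degreeLTEquiv k (d + 1)).finrank_eq, Module.finrank_fin_fun] at h1
    have h2 := he.2
    rw [Fin.sum_univ_three] at h2
    omega
  obtain ⟨v, hv, hv0⟩ := Submodule.exists_mem_ne_zero_of_ne_bot hker
  rw [LinearMap.mem_ker] at hv
  intro hbot
  have hdeg : ∀ q : degreeLT k (d + 1), (q : k[X]).natDegree ≤ d := fun q => by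
    have hq := mem_degreeLT.mp q.2
    by_cases h0 : (q : k[X]) = 0
    · simp [h0]
    · rw [← natDegree_lt_iff_degree_lt h0] at hq; omega
  have hmem : ((v.1 : k[X]), (v.2 : k[X])) ∈ threeSpace d e P :=
    ⟨hdeg _, hdeg _, hinj _ _ _ fun j => congrFun (congrArg Prod.fst hv) j,
      hinj _ _ _ fun j => congrFun (congrArg (fun z => z.2.1) hv) j,
      hinj _ _ _ fun j => congrFun (congrArg (fun z => z.2.2) hv) j⟩
  rw [hbot, Submodule.mem_bot] at hmem
  exact hv0 (Prod.ext (Subtype.ext (congrArg Prod.fst hmem)) (Subtype.ext (congrArg Prod.snd hmem)))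

include he hP in
theorem threeSpace_span {v : k[X] × k[X]} (hv : v ∈ threeSpace d e P) (hv0 : v ≠ 0) :
    Submodule.span k {v.1, v.2} ≤ degreeLE k d ∧ Module.finrank k (Submodule.span k {v.1, v.2}) = 2 ∧
      ∀ i, ∃ s ∈ Submodule.span k {v.1, v.2}, s ≠ 0 ∧ (X - C (P i)) ^ e i ∣ s := by
  obtain ⟨a1, a2, a3, a4, a5⟩ := hv
  have h1 : v.1 ≠ 0 := fun h => hv0 (Prod.ext h (eq_zero_of_two he hP a2 1 2 (by decide) a4 (by
    rw [h, zero_sub, dvd_neg] at a5; exact a5)))
  have h2 : v.2 ≠ 0 := fun h => h1 (eq_zero_of_two he hP a1 0 2 (by decide) a3 (by rw [h, sub_zero] at a5; exact a5))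
  have hli : LinearIndependent k ![v.1, v.2] := LinearIndependent.pair_iff.mpr fun a b hab => by
    by_cases ha : a = 0
    · subst ha
      rw [zero_smul, zero_add, smul_eq_zero, or_iff_left h2] at hab
      exact ⟨rfl, hab⟩
    · refine absurd (eq_zero_of_two he hP a1 0 1 (by decide) a3 ?_) h1
      have : v.1 = C (-b / a) * v.2 := by
        rw [← smul_eq_C_mul, neg_div, neg_smul, div_eq_inv_mul, mul_smul, eq_neg_of_add_eq_zero_right hab, smul_neg,
          smul_smul, inv_mul_cancel₀ ha, one_smul, neg_neg]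
      rw [this]
      exact dvd_mul_of_dvd_right a4 _
  have hm1 : v.1 ∈ Submodule.span k {v.1, v.2} := Submodule.subset_span (Set.mem_insert _ _)
  have hm2 : v.2 ∈ Submodule.span k {v.1, v.2} := Submodule.subset_span (Set.mem_insert_of_mem _ rfl)
  refine ⟨Submodule.span_le.mpr ?_, ?_, fun i => ?_⟩
  · rintro _ (rfl | rfl) <;> exact mem_degreeLE.mpr (natDegree_le_iff_degree_le.mp (by assumption))
  · have hcard := finrank_span_eq_card hli
    rwa [Matrix.range_cons_cons_empty, Fintype.card_fin] at hcard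
  · fin_cases i
    · exact ⟨_, hm1, h1, a3⟩
    · exact ⟨_, hm2, h2, a4⟩
    · refine ⟨_, Submodule.sub_mem _ hm1 hm2, fun h => ?_, a5⟩
      have := (LinearIndependent.pair_iff.mp hli 1 (-1) (by simp [← sub_eq_add_neg, show v.1 - v.2 = 0 from h])).1
      exact one_ne_zero this

include he hP in
theorem exists_threeSpace {V : Submodule k k[X]} (hle : V ≤ degreeLE k d) (hfr : Module.finrank k V = 2)
    (hmem : ∀ i, ∃ s ∈ V, s ≠ 0 ∧ (X - C (P i)) ^ e i ∣ s) :
    ∃ v ∈ threeSpace d e P, v ≠ 0 ∧ Submodule.span k {v.1, v.2} = V := by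
  haveI : FiniteDimensional k V := Module.finite_of_finrank_pos (by omega)
  have hdeg : ∀ f ∈ V, f.natDegree ≤ d := fun f hf => natDegree_le_iff_degree_le.mpr (mem_degreeLE.mp (hle hf))
  obtain ⟨s₀, hs₀, hs₀0, hd₀⟩ := hmem 0
  obtain ⟨s₁, hs₁, hs₁0, hd₁⟩ := hmem 1
  obtain ⟨s₂, hs₂, hs₂0, hd₂⟩ := hmem 2
  have hli : LinearIndependent k ![s₀, s₁] := LinearIndependent.pair_iff.mpr fun a b hab => by
    by_cases ha : a = 0
    · subst ha
      rw [zero_smul, zero_add, smul_eq_zero, or_iff_left hs₁0] at hab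
      exact ⟨rfl, hab⟩
    · refine absurd (eq_zero_of_two he hP (hdeg _ hs₀) 0 1 (by decide) hd₀ ?_) hs₀0
      have : s₀ = C (-b / a) * s₁ := by
        rw [← smul_eq_C_mul, neg_div, neg_smul, div_eq_inv_mul, mul_smul, eq_neg_of_add_eq_zero_right hab, smul_neg,
          smul_smul, inv_mul_cancel₀ ha, one_smul, neg_neg]
      rw [this]
      exact dvd_mul_of_dvd_right hd₁ _
  have hcard := finrank_span_eq_card hli
  rw [Matrix.range_cons_cons_empty, Fintype.card_fin] at hcard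
  have hspan : V = Submodule.span k {s₀, s₁} :=
    (Submodule.eq_of_le_of_finrank_eq (Submodule.span_le.mpr (by rintro _ (rfl | rfl) <;> assumption)) (hcard.trans hfr.symm)).symm
  obtain ⟨a, b, hab⟩ := Submodule.mem_span_pair.mp (hspan ▸ hs₂)
  have ha : a ≠ 0 := fun h => by
    refine hs₂0 (eq_zero_of_two he hP (hdeg _ hs₂) 1 2 (by decide) ?_ hd₂)
    rw [← hab, h, zero_smul, zero_add, smul_eq_C_mul]
    exact dvd_mul_of_dvd_right hd₁ _
  have hb : b ≠ 0 := fun h => by
    refine hs₂0 (eq_zero_of_two he hP (hdeg _ hs₂) 0 2 (by decide) ?_ hd₂)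
    rw [← hab, h, zero_smul, add_zero, smul_eq_C_mul]
    exact dvd_mul_of_dvd_right hd₀ _
  refine ⟨(a • s₀, -b • s₁), ⟨(natDegree_smul_le _ _).trans (hdeg _ hs₀), (natDegree_smul_le _ _).trans (hdeg _ hs₁),
    by rw [smul_eq_C_mul]; exact dvd_mul_of_dvd_right hd₀ _, by simp only [smul_eq_C_mul]; exact dvd_mul_of_dvd_right hd₁ _,
    by rw [neg_smul, sub_neg_eq_add, hab]; exact hd₂⟩, fun h => ha ?_, ?_⟩
  · exact (smul_eq_zero.mp (congrArg Prod.fst h)).resolve_right hs₀0
  · rw [hspan]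
    refine le_antisymm (Submodule.span_le.mpr ?_) (Submodule.span_le.mpr ?_)
    · rintro _ (rfl | rfl)
      · exact Submodule.smul_mem _ _ (Submodule.subset_span (Set.mem_insert _ _))
      · exact Submodule.smul_mem _ _ (Submodule.subset_span (Set.mem_insert_of_mem _ rfl))
    · rintro _ (rfl | rfl)
      · exact (Submodule.smul_mem_iff _ ha).mp (Submodule.subset_span (Set.mem_insert _ _))
      · exact (Submodule.smul_mem_iff _ (neg_ne_zero.mpr hb)).mp (Submodule.subset_span (Set.mem_insert_of_mem _ rfl))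

include he hP in
theorem threeSpace_proportional {v w : k[X] × k[X]} (hv : v ∈ threeSpace d e P) (hw : w ∈ threeSpace d e P)
    (hcop : IsCoprime v.1 v.2) (hd : v.1.natDegree = d ∨ v.2.natDegree = d) : ∃ c : k, w = c • v := by
  obtain ⟨a1, a2, a3, a4, a5⟩ := hv
  obtain ⟨b1, b2, b3, b4, b5⟩ := hw
  have hH : v.1 * w.2 - v.2 * w.1 = 0 := by
    by_contra hne
    have hdvd : ∏ i, (X - C (P i)) ^ e i ∣ v.1 * w.2 - v.2 * w.1 := by
      refine Finset.prod_dvd_of_coprime (fun i _ j _ hij => ((pairwise_coprime_X_sub_C hP) hij).pow) fun i _ => ?_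
      fin_cases i
      · exact dvd_sub (dvd_mul_of_dvd_left a3 _) (dvd_mul_of_dvd_right b3 _)
      · exact dvd_sub (dvd_mul_of_dvd_right b4 _) (dvd_mul_of_dvd_left a4 _)
      · rw [show v.1 * w.2 - v.2 * w.1 = w.2 * (v.1 - v.2) - v.2 * (w.1 - w.2) by ring]
        exact dvd_sub (dvd_mul_of_dvd_right a5 _) (dvd_mul_of_dvd_right b5 _)
    have h := natDegree_le_of_dvd hdvd hne
    rw [natDegree_prod_of_monic _ _ fun i _ => (monic_X_sub_C _).pow _] at h
    simp only [natDegree_pow, natDegree_X_sub_C, mul_one] at h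
    have h2 : (v.1 * w.2 - v.2 * w.1).natDegree ≤ 2 * d :=
      (natDegree_sub_le _ _).trans (max_le (natDegree_mul_le.trans (by omega)) (natDegree_mul_le.trans (by omega)))
    have h3 := he.2
    omega
  have hH' := sub_eq_zero.mp hH
  have hsum : 2 ≤ d := le_trans (he.1 0).1 (he.1 0).2.1
  by_cases h10 : v.1 = 0
  · rw [h10, natDegree_zero] at hd
    rw [h10, isCoprime_zero_left] at hcop
    have := natDegree_eq_zero_of_isUnit hcop
    omega
  by_cases h20 : v.2 = 0
  · rw [h20, natDegree_zero] at hd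
    rw [h20, isCoprime_zero_right] at hcop
    have := natDegree_eq_zero_of_isUnit hcop
    omega
  obtain ⟨l, hl⟩ : v.1 ∣ w.1 := hcop.dvd_of_dvd_mul_left (Dvd.intro _ hH')
  have hl2 : w.2 = v.2 * l := mul_left_cancel₀ h10 (by rw [hH', hl]; ring)
  have hlC : l = C (l.coeff 0) := by
    by_cases hl0 : l = 0
    · simp [hl0]
    refine eq_C_of_natDegree_eq_zero ?_
    rcases hd with h | h
    · rw [hl, natDegree_mul h10 hl0] at b1; omega
    · rw [hl2, natDegree_mul h20 hl0] at b2; omega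
  refine ⟨l.coeff 0, Prod.ext ?_ ?_⟩
  · rw [Prod.smul_fst, smul_eq_C_mul, ← hlC, hl, mul_comm]
  · rw [Prod.smul_snd, smul_eq_C_mul, ← hlC, hl2, mul_comm]

include he hP in
theorem span_eq_span {v w : k[X] × k[X]} (hv : v ∈ threeSpace d e P) (hw : w ∈ threeSpace d e P) (hv0 : v ≠ 0)
    (h : Submodule.span k {v.1, v.2} = Submodule.span k {w.1, w.2}) : ∃ c : k, w = c • v := by
  have hw1 : w.1 ∈ Submodule.span k {v.1, v.2} := h ▸ Submodule.subset_span (Set.mem_insert _ _)
  have hw2 : w.2 ∈ Submodule.span k {v.1, v.2} := h ▸ Submodule.subset_span (Set.mem_insert_of_mem _ rfl)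
  obtain ⟨a1, a2, a3, a4, a5⟩ := hv
  obtain ⟨b1, b2, b3, b4, b5⟩ := hw
  obtain ⟨α, β, hαβ⟩ := Submodule.mem_span_pair.mp hw1
  obtain ⟨γ, δ, hγδ⟩ := Submodule.mem_span_pair.mp hw2
  have hβ : β • v.2 = 0 := by
    refine eq_zero_of_two he hP ((natDegree_smul_le _ _).trans a2) 0 1 (by decide) ?_ (by rw [smul_eq_C_mul]; exact dvd_mul_of_dvd_right a4 _)
    rw [show β • v.2 = w.1 - α • v.1 by rw [← hαβ]; abel, smul_eq_C_mul]
    exact dvd_sub b3 (dvd_mul_of_dvd_right a3 _)
  have hγ : γ • v.1 = 0 := by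
    refine eq_zero_of_two he hP ((natDegree_smul_le _ _).trans a1) 1 0 (by decide) ?_ (by rw [smul_eq_C_mul]; exact dvd_mul_of_dvd_right a3 _)
    rw [show γ • v.1 = w.2 - δ • v.2 by rw [← hγδ]; abel, smul_eq_C_mul]
    exact dvd_sub b4 (dvd_mul_of_dvd_right a4 _)
  rw [hβ, add_zero] at hαβ
  rw [hγ, zero_add] at hγδ
  refine ⟨α, Prod.ext hαβ.symm ?_⟩
  have hzero : (α - δ) • v.2 = 0 := by
    refine eq_zero_of_two he hP ((natDegree_smul_le _ _).trans a2) 1 2 (by decide) (by rw [smul_eq_C_mul]; exact dvd_mul_of_dvd_right a4 _) ?_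
    rw [show (α - δ) • v.2 = (w.1 - w.2) - α • (v.1 - v.2) by rw [← hαβ, ← hγδ, sub_smul, smul_sub]; abel, smul_eq_C_mul]
    exact dvd_sub b5 (dvd_mul_of_dvd_right a5 _)
  rw [Prod.smul_snd, ← hγδ]
  rw [sub_smul, sub_eq_zero] at hzero
  exact hzero.symm

include he hP in
theorem ramMaps_three [CharP k p] :
    (ramMaps d P e).Subsingleton ∧
      (ramMaps d P e = ∅ ↔ ∃ V : Submodule k k[X], V ≤ degreeLE k d ∧ Module.finrank k V = 2 ∧
        ¬ W4c1limliniiii.IsSeparable V ∧ ∀ i, ∃ s ∈ V, s ≠ 0 ∧ e i ≤ rootMultiplicity (P i) s) := by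
  have good : ∀ V ∈ ramMaps d P e, ∃ v ∈ threeSpace d e P, v ≠ 0 ∧ Submodule.span k {v.1, v.2} = V ∧
      ∀ w ∈ threeSpace d e P, ∃ c : k, w = c • v := by
    intro V hV
    have hmem : ∀ i, ∃ s ∈ V, s ≠ 0 ∧ (X - C (P i)) ^ e i ∣ s := fun i => by
      obtain ⟨s, hs, hs0, h⟩ := (hV.2.2 i).1
      exact ⟨s, hs, hs0, (le_rootMultiplicity_iff hs0).mp h⟩
    obtain ⟨v, hv, hv0, hspan⟩ := exists_threeSpace he hP hV.1.1 hV.1.2.1 hmem
    refine ⟨v, hv, hv0, hspan, fun w hw => ?_⟩
    have hW : wronskian v.1 v.2 ≠ 0 := fun h => by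
      obtain ⟨s, hs, t, ht, hst⟩ := hV.2.1
      exact hst (wronskian_eq_zero_of_span h (hspan ▸ hs) (hspan ▸ ht))
    obtain ⟨c, hc, hWc⟩ := exists_wronskian_eq he hP hv.1 hv.2.1 hW (by rw [hspan]; exact hmem)
    refine threeSpace_proportional he hP hv hw (isCoprime_of_wronskian hc hWc fun i => ?_)
      (natDegree_eq_or p he hv.1 hv.2.1 hc hWc)
    obtain ⟨s, hs, hs0⟩ := hV.1.2.2.2 (P i)
    by_contra! h
    obtain ⟨u, u', rfl⟩ := Submodule.mem_span_pair.mp (hspan ▸ hs)
    exact hs0 (by simp [h.1, h.2])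
  refine ⟨fun V hV V' hV' => ?_, ⟨fun hempty => ?_, ?_⟩⟩
  · obtain ⟨v, -, hv0, hspan, huniq⟩ := good V hV
    obtain ⟨w, hw, hw0, hspan', -⟩ := good V' hV'
    obtain ⟨c, rfl⟩ := huniq w hw
    have hc : c ≠ 0 := fun h => hw0 (by rw [h, zero_smul])
    rw [← hspan, ← hspan', Prod.smul_fst, Prod.smul_snd]
    refine le_antisymm (Submodule.span_le.mpr ?_) (Submodule.span_le.mpr ?_)
    · rintro _ (rfl | rfl)
      · exact (Submodule.smul_mem_iff _ hc).mp (Submodule.subset_span (Set.mem_insert _ _))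
      · exact (Submodule.smul_mem_iff _ hc).mp (Submodule.subset_span (Set.mem_insert_of_mem _ rfl))
    · rintro _ (rfl | rfl)
      · exact Submodule.smul_mem _ _ (Submodule.subset_span (Set.mem_insert _ _))
      · exact Submodule.smul_mem _ _ (Submodule.subset_span (Set.mem_insert_of_mem _ rfl))
  · obtain ⟨v, hv, hv0⟩ := Submodule.exists_mem_ne_zero_of_ne_bot (threeSpace_ne_bot (P := P) he)
    obtain ⟨h1, h2, h3⟩ := threeSpace_span he hP hv hv0
    refine ⟨_, h1, h2, fun hsep => ?_, fun i => ?_⟩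
    · obtain ⟨s, hs, t, ht, hst⟩ := hsep
      have := span_mem_ramMaps he hP hv.1 hv.2.1 (fun h => hst (wronskian_eq_zero_of_span h hs ht)) h3
      rw [hempty] at this
      exact this
    · obtain ⟨s, hs, hs0, h⟩ := h3 i
      exact ⟨s, hs, hs0, (le_rootMultiplicity_iff hs0).mpr h⟩
  · rintro ⟨V, hle, hfr, hins, hmem⟩
    obtain ⟨w, hw, hw0, hspanw⟩ := exists_threeSpace he hP hle hfr fun i => by
      obtain ⟨s, hs, hs0, h⟩ := hmem i
      exact ⟨s, hs, hs0, (le_rootMultiplicity_iff hs0).mp h⟩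
    rw [Set.eq_empty_iff_forall_notMem]
    intro U hU
    obtain ⟨v, -, hv0, hspan, huniq⟩ := good U hU
    obtain ⟨c, rfl⟩ := huniq w hw
    have hc : c ≠ 0 := fun h => hw0 (by rw [h, zero_smul])
    refine hins ⟨c • v.1, hspanw ▸ Submodule.subset_span (Set.mem_insert _ _), c • v.2,
      hspanw ▸ Submodule.subset_span (Set.mem_insert_of_mem _ rfl), ?_⟩
    obtain ⟨s, hs, t, ht, hst⟩ := hU.2.1
    intro h
    apply hst
    refine wronskian_eq_zero_of_span ?_ (hspan ▸ hs) (hspan ▸ ht)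
    simp only [wronskian, smul_eq_C_mul, derivative_mul, derivative_C, zero_mul, zero_add] at h ⊢
    have h' : C (c * c) * (v.1 * derivative v.2 - derivative v.1 * v.2) = 0 := by
      rw [map_mul]; linear_combination h
    exact (mul_eq_zero.mp h').resolve_left (by simpa using hc)

end Groth.Agent.RamPencil
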